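import Groth.Agent.Sga3B.MaxTorBc636
import Groth.Agent.Sga3.H784.NAMain

/-!
# Unipotent rank zero: maximal tori are self-centralizing at all geometric points

`selfC_geom`: `G` over `S` of unipotent rank zero, `i` a maximal torus of the base change of `G` along `f : S' ⟶ S`; then
over every geometric point of `S'` the torus `i` is its own centralizer.
-/

set_option autoImplicit false
universe u
open CategoryTheory MonoidalCategory CartesianMonoidalCategory MonObj GrpObj AlgebraicGeometry Limits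

namespace Groth.Agent.Sga3.H832.SelfCent

open Groth.Agent.Sga3B Groth.Agent.Sga3B.RedIso Groth.Agent.Sga3B.BcNat Groth.Agent.Sga3B.AlgBc
open Groth.Agent.Sga3B.MaxTorBc636

section general

variable {S : Scheme.{u}}

/-- A self-centralizing torus is a maximal torus. -/
theorem isMaximalTorus_of_selfC {T G : Over S} [GrpObj T] [GrpObj G] {i : T ⟶ G} [IsMonHom i] [Mono i]
    (hT : Red.IsTorus T) (h : SelfC i) : Red.IsMaximalTorus i :=
  ⟨inferInstance, inferInstance, hT, fun _ => isMaxTorOver_of_selfC (selfC_bc _ h)⟩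

/-- Self-centralizing subgroups: transport by conjugation. -/
theorem selfC_of_conjBy {G T₁ T₂ : Over S} [GrpObj G] {i₁ : T₁ ⟶ G} {i₂ : T₂ ⟶ G} {g : 𝟙_ (Over S) ⟶ G}
    (h : SGA3x.ConjBy i₁ i₂ g) (h₁ : SelfC i₁) : SelfC i₂ := by
  obtain ⟨φ, hφ⟩ := h
  have key : ∀ (X : Over S) (t : X ⟶ T₁),
      (toUnit X ≫ g) * (t ≫ i₁) * (toUnit X ≫ g)⁻¹ = t ≫ φ.hom ≫ i₂ := by
    intro X t
    rw [← hφ, MonObj.comp_mul, MonObj.comp_mul, GrpObj.comp_inv, ← Category.assoc t (toUnit T₁) g,
      comp_toUnit]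
  intro X x hx
  obtain ⟨t, ht⟩ := h₁ X ((toUnit X ≫ g)⁻¹ * x * (toUnit X ≫ g)) (by
    intro X' x' t
    have h2 := hx X' x' (t ≫ φ.hom)
    rw [Category.assoc, ← key] at h2
    rw [MonObj.comp_mul, MonObj.comp_mul, GrpObj.comp_inv, ← Category.assoc x' (toUnit X) g, comp_toUnit]
    have h3 := congrArg (fun z => (toUnit X' ≫ g)⁻¹ * z * (toUnit X' ≫ g)) h2
    convert! h3 using 1 <;> group)
  refine ⟨t ≫ φ.hom, ?_⟩
  rw [Category.assoc, ← key, ht]
  group

end general

section field

variable {K : Type u} [Field K] [IsAlgClosed K] {G : Over (Spec (CommRingCat.of K))} [GrpObj G]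
  [LocallyOfFiniteType G.hom]

/-- If one maximal torus is self-centralizing, so are all. -/
theorem selfC_of_selfC {T₀ T : Over (Spec (CommRingCat.of K))} [GrpObj T₀] [GrpObj T] {i₀ : T₀ ⟶ G} {i : T ⟶ G}
    (h₀ : Red.IsMaximalTorus i₀) (h : SelfC i₀) (hi : Red.IsMaximalTorus i) : SelfC i := by
  obtain ⟨g, hg⟩ := H784.NAMain.exists_conjBy i₀ i h₀ hi
  exact selfC_of_conjBy hg h

end field

section geom

variable {S S' : Scheme.{u}} {G : Over S} [GrpObj G] [LocallyOfFiniteType G.hom]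

/-- **Maximal tori of groups of unipotent rank zero are self-centralizing at every geometric point.** -/
theorem selfC_geomFibre (f : S' ⟶ S) (hu : SGA3x.UnipotentRankZero G) {T : Over S'} [GrpObj T]
    {i : T ⟶ Red.bc f G} (hi : Red.IsMaximalTorus i) (s' : S') :
    SelfC ((Over.pullback (Red.geomPt s')).map i) := by
  obtain ⟨θ, hθ⟩ := exists_geomPt f s'
  have hft : LocallyOfFiniteType (Red.geomFibre (f s') G).hom :=
    inferInstanceAs (LocallyOfFiniteType (pullback.snd G.hom (Red.geomPt (f s'))))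
  obtain ⟨T₀, _, i₀, h₀⟩ := H784.NAMain.exists_isMaximalTorus (Red.geomFibre (f s') G)
  have h1 : IsMonHom i₀ := h₀.1
  have h2 : Mono i₀ := h₀.2.1
  have h3 : SelfC i₀ := fun X g hg => ((hu (f s') T₀ i₀ h₀).2.2 X g).mpr hg
  have h4 : SelfC ((Over.pullback θ).map i₀) := selfC_bc θ h3
  have h5 : Red.IsMaximalTorus ((Over.pullback θ).map i₀) :=
    isMaximalTorus_of_selfC (TorusBc.isTorus_bc θ h₀.2.2.1) h4
  -- transport to the geometric fibre of the base change
  let e : Grp.mk (Red.bc θ (Red.geomFibre (f s') G)) ≅ Grp.mk (Red.bc (Red.geomPt s') (Red.bc f G)) :=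
    (fibIso hθ G).symm
  have he : IsMonHom (und e).hom := e.hom.hom.isMonHom_hom
  have he2 : IsMonHom ((Over.pullback θ).map i₀ ≫ (und e).hom) := inferInstance
  have he3 : Mono ((Over.pullback θ).map i₀ ≫ (und e).hom) := mono_comp _ _
  have h6 : SelfC ((Over.pullback θ).map i₀ ≫ (und e).hom) :=
    selfC_of_arrow (i := (Over.pullback θ).map i₀) (Iso.refl (Grp.mk (Red.bc θ T₀))) e (by
      change _ = 𝟙 _ ≫ _
      rw [Category.id_comp]) h4
  have h7 : Red.IsMaximalTorus ((Over.pullback θ).map i₀ ≫ (und e).hom) :=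
    isMaximalTorus_of_selfC (TorusBc.isTorus_bc θ h₀.2.2.1) h6
  have hft' : LocallyOfFiniteType (Red.geomFibre s' (Red.bc f G)).hom :=
    inferInstanceAs (LocallyOfFiniteType (pullback.snd (pullback.snd G.hom f) (Red.geomPt s')))
  exact selfC_of_selfC h7 h6 (AlgBc.isMaximalTorus_bc (Red.geomPt s') hi)

/-- The same at every geometric point. -/
theorem selfC_geom (f : S' ⟶ S) (hu : SGA3x.UnipotentRankZero G) {T : Over S'} [GrpObj T]
    {i : T ⟶ Red.bc f G} (hi : Red.IsMaximalTorus i) {K : Type u} [Field K] [IsAlgClosed K]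
    (x : Spec (CommRingCat.of K) ⟶ S') : SelfC ((Over.pullback x).map i) := by
  obtain ⟨s', θ, hθ⟩ := exists_fac_geomPt x
  have h1 := selfC_bc θ (selfC_geomFibre f hu hi s')
  subst hθ
  exact selfC_of_arrow (BcIso.bcCompIso θ (Red.geomPt s') T).symm
    (BcIso.bcCompIso θ (Red.geomPt s') (Red.bc f G)).symm (comp_nat_inv θ (Red.geomPt s') i).symm h1

end geom

end Groth.Agent.Sga3.H832.SelfCent
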