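import Groth.Agent.Sga3.H765.TorsFix
import Groth.Agent.Sga3.H518.TorsSplit
import Mathlib.RingTheory.RootsOfUnity.PrimitiveRoots

/-!
# The points `ψ = psi ζ : (ℤ/N)^r → D(ℤ^r)(B)` attached to a primitive root of unity

* `chiR_psi`: the characters are `l ↦ ζ ^ ⟨l, γ⟩`.
* `sep_psi`: they separate any finite set of weights with differences `< N`.
* `exists_of_pow`: over a domain every point of order dividing `N` is one of them.
-/

set_option autoImplicit false
universe u
open CategoryTheory MonoidalCategory CartesianMonoidalCategory MonObj GrpObj AlgebraicGeometry Limits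

namespace Groth.Agent.Sga3.H832.TorsPt

open Groth.Agent.Sga3.H765.WtMat Groth.Agent.Sga3.H765.TorsFix Groth.Agent.Sga3B Groth.Agent.Sga3B.DSPts
  Groth.Agent.Sga3.H518.TorsSplit

variable {B : Type u} [CommRing B] {N : ℕ} (ζ : Bˣ) (hζ : ζ ^ N = 1)

lemma sti_sec (b : B) : sti B (sec (𝟙_ (Over (Spec (CommRingCat.of B)))) b) = b := by
  have h1 : (𝟙_ (Over (Spec (CommRingCat.of B)))).hom = 𝟙 _ := rfl
  have h3 : sec (𝟙_ (Over (Spec (CommRingCat.of B)))) b = (Scheme.ΓSpecIso (CommRingCat.of B)).inv b := by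
    change (𝟙_ (Over (Spec (CommRingCat.of B)))).hom.appTop _ = _
    rw [h1, Scheme.Hom.id_appTop]
    rfl
  rw [h3]
  have h2 := (Scheme.ΓSpecIso (CommRingCat.of B)).inv_hom_id
  exact congr($(h2).hom b)

lemma chiR_psi {r : ℕ} (γ : Multiplicative (Fin r → ZMod N)) : chiR (psi ζ hζ r) γ = chi ζ hζ γ.toAdd := by
  have h1 : chiR (psi ζ hζ r) γ = ((sti B : _ →+* B) : _ →* B).comp (dsChar (psi ζ hζ r γ)) := rfl
  have h2 : dsChar (psi ζ hζ r γ) = chi (Units.map (sec (𝟙_ (Over (Spec (CommRingCat.of B)))) : B →* _) ζ)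
      (map_pow_eq ζ hζ _) γ.toAdd := dsChar_dsEquiv _
  rw [h1, h2]
  exact chi_map _ _ _ _ _ _ (sti_sec (ζ : B)).symm

variable (hprim : ∀ (K : Type u) [Field K] (φ : B →+* K), IsPrimitiveRoot (φ (ζ : B)) N)

include hprim in
/-- Separation of the weights. -/
theorem sep_psi [NeZero N] (hN : IsUnit (N : B)) {r : ℕ} (Λ : Finset (Fin r → ℤ))
    (hΛ : ∀ l ∈ Λ, ∀ k ∈ Λ, ∀ i, |l i - k i| < N) : Sep (chiR (psi ζ hζ r)) Λ := by
  refine ⟨?_, fun l hl k hk hlk => ?_⟩
  · have h1 : Fintype.card (Multiplicative (Fin r → ZMod N)) = N ^ r := by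
      rw [Fintype.card_multiplicative, Fintype.card_pi_const, ZMod.card]
    rw [h1, Nat.cast_pow]
    exact hN.pow r
  · obtain ⟨i, hi⟩ := Function.ne_iff.1 hlk
    refine ⟨Multiplicative.ofAdd (Pi.single i 1), ?_⟩
    by_contra hcon
    obtain ⟨P, hP, hmem⟩ := exists_max_ideal_of_mem_nonunits hcon
    letI hPf : Field (B ⧸ P) := Ideal.Quotient.field P
    let φ : B →+* B ⧸ P := Ideal.Quotient.mk P
    have hpr := hprim (B ⧸ P) φ
    have hval : ∀ l : Fin r → ℤ, chiR (psi ζ hζ r) (Multiplicative.ofAdd (Pi.single i 1)) (Multiplicative.ofAdd l) =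
        ((ζ ^ (l i) : Bˣ) : B) := by
      intro l
      rw [chiR_psi, chi_apply]
      have h2 : H518.TorsSplit.pair (Multiplicative.ofAdd l).toAdd
          (Multiplicative.ofAdd (Pi.single i (1 : ZMod N))).toAdd = ((l i : ℤ) : ZMod N) := by
        change H518.TorsSplit.pair l (Pi.single i 1) = _
        rw [H518.TorsSplit.pair, Finset.sum_eq_single i]
        · simp
        · intro j _ hj
          simp [Pi.single_eq_of_ne hj]
        · simp
      rw [h2, expHom, ZMod.lift_coe]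
      simp
    rw [hval, hval] at hmem
    have h3 : φ ((ζ ^ (l i) : Bˣ) : B) = φ ((ζ ^ (k i) : Bˣ) : B) := by
      rw [← sub_eq_zero, ← map_sub]
      exact Ideal.Quotient.eq_zero_iff_mem.2 hmem
    let z : (B ⧸ P)ˣ := Units.map (φ : B →* B ⧸ P) ζ
    have h4 : z ^ (l i - k i) = 1 := by
      rw [zpow_sub, mul_inv_eq_one]
      ext
      have h5 : ∀ a : ℤ, ((z ^ a : (B ⧸ P)ˣ) : B ⧸ P) = φ ((ζ ^ a : Bˣ) : B) := fun a => by
        rw [← map_zpow]; rfl
      rw [h5, h5, h3]
    have hz : IsPrimitiveRoot z N := IsPrimitiveRoot.coe_units_iff.1 hpr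
    have h6 := (hz.zpow_eq_one_iff_dvd _).1 h4
    have h7 := Int.eq_zero_of_abs_lt_dvd h6 (hΛ l hl k hk i)
    exact hi (sub_eq_zero.1 h7)

lemma pow_eq_one (r : ℕ) (γ : Multiplicative (Fin r → ZMod N)) : γ ^ N = 1 := by
  apply Multiplicative.toAdd.injective
  rw [toAdd_pow, toAdd_one]
  funext i
  simp

include hprim in
/-- Over a domain, points of order dividing `N` are the `ψ γ`. -/
theorem exists_of_pow [NeZero N] {r : ℕ} (V : Type u) [CommRing V] [IsDomain V] (φ : B →+* V)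
    (x : SP φ ⟶ Red.DS _ (Fin r → ℤ)) (hx : x ^ N = 1) : ∃ γ, x = toUnit _ ≫ psi ζ hζ r γ := by
  have hpr : IsPrimitiveRoot (φ (ζ : B)) N := by
    have h1 := hprim (FractionRing V) ((algebraMap V (FractionRing V)).comp φ)
    exact IsPrimitiveRoot.of_map_of_injective (f := algebraMap V (FractionRing V)) h1
      (IsFractionRing.injective V (FractionRing V))
  have hχ : (dsChar x) ^ N = 1 := by
    change ((dsEquiv (SP φ) (Fin r → ℤ)).symm x) ^ N = 1
    rw [← map_pow, hx, map_one]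
  have hex : ∀ i : Fin r, ∃ a : ZMod N, spi φ (dsChar x (Multiplicative.ofAdd (Pi.single i 1))) =
      (φ (ζ : B)) ^ a.val := by
    intro i
    have h2 : spi φ (dsChar x (Multiplicative.ofAdd (Pi.single i 1))) ^ N = 1 := by
      rw [← map_pow, ← MonoidHom.pow_apply, hχ, MonoidHom.one_apply, map_one]
    obtain ⟨a, ha, ha'⟩ := hpr.eq_pow_of_pow_eq_one h2
    refine ⟨(a : ZMod N), ?_⟩
    rw [ZMod.val_natCast, Nat.mod_eq_of_lt ha, ha']
  choose a ha using hex
  refine ⟨Multiplicative.ofAdd a, ?_⟩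
  rw [toUnit_comp_psi, pt, ← dsEquiv_dsChar x]
  congr 1
  refine char_ext fun i => ?_
  rw [chi_single]
  have h3 : Function.Injective (spi φ) := Function.LeftInverse.injective (sp_spi φ)
  apply h3
  rw [ha, map_pow]
  congr 1
  change φ (ζ : B) = spi φ (sec (SP φ) (ζ : B))
  exact (congrArg (fun f : B →+* V => f (ζ : B)) (spi_comp_st φ)).symm

end Groth.Agent.Sga3.H832.TorsPt
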