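import Groth.Agent.Sga3.H832.VT
import Groth.Agent.Sga3.H832.TorsPt
import Groth.Agent.Sga3.H803.EtTors
import Groth.Agent.Sga3.H819.EqTrans

/-!
# The scheme of maximal tori of a linear group, étale-locally

`exists_local`: `Q` smooth, separated, quasi-compact over `Spec R` with a monomorphism `ρ : Q ⟶ GL_m` and a split
maximal torus `τ`: étale-locally on `Spec R` there is a quotient `q : Q ⟶ 𝒯` of `Q` by the normaliser of the
`N`-torsion of `τ`, `𝒯` affine and smooth.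
-/

set_option autoImplicit false
universe u
open CategoryTheory MonoidalCategory CartesianMonoidalCategory MonObj GrpObj AlgebraicGeometry Limits

namespace Groth.Agent.Sga3.H832.RTLoc

open Groth.Agent.Sga3.H765.WtMat Groth.Agent.Sga3.H765.TorsFix Groth.Agent.Sga3B Groth.Agent.Sga3B.GLn
  Groth.Agent.Sga3B.DSPts
open Groth.Agent.Sga3.H832.VT

/-- Base change of the data `(ρ, τ, weights)`. -/
theorem exists_rho {R B : Type u} [CommRing R] [CommRing B] (φ : R →+* B) {M : Type} [AddCommGroup M]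
    [DecidableEq M] {m : Type u} [Fintype m] [DecidableEq m] {Q : Over (Spec (CommRingCat.of R))} [GrpObj Q]
    (ρ : Q ⟶ GLS m (Spec (CommRingCat.of R))) [IsMonHom ρ] [Mono ρ]
    (τ : Red.DS (Spec (CommRingCat.of R)) M ⟶ Q) {Λ : Finset M} {e : M → Matrix m m R}
    (hρ : ∀ (X : Over (Spec (CommRingCat.of R))) (x : X ⟶ Red.DS _ M),
        mat (x ≫ τ ≫ ρ) = val (st X) Λ e (dsChar x)) :
    ∃ ρ' : Red.bc (sp0 φ) Q ⟶ GLS m (Spec (CommRingCat.of B)), IsMonHom ρ' ∧ Mono ρ' ∧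
      (∀ (T : Over (Spec (CommRingCat.of B))) (x : T ⟶ Red.bc (sp0 φ) Q),
        mat (x ≫ ρ') = H819.BcGL.matO (sp0 φ) ((bcEquiv (sp0 φ) T Q).symm x ≫ ρ)) ∧
      ∀ (X : Over (Spec (CommRingCat.of B))) (x : X ⟶ Red.DS _ M),
        mat (x ≫ up φ τ ≫ ρ') = val (st X) Λ (fun l => (e l).map φ) (dsChar x) := by
  obtain ⟨ρ', hρm, hρ'⟩ := H819.BcGL.exists_bc (sp0 φ) ρ
  have hmul : ∀ (T : Over (Spec (CommRingCat.of B))) (x : T ⟶ Red.bc (sp0 φ) Q),
      mat (x ≫ ρ') = H819.BcGL.matO (sp0 φ) ((bcEquiv (sp0 φ) T Q).symm x ≫ ρ) := hρ'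
  refine ⟨ρ', hρm, ⟨fun {X} x x' hx => ?_⟩, hmul, fun X x => ?_⟩
  · have h1 : (bcEquiv (sp0 φ) X Q).symm x ≫ ρ = (bcEquiv (sp0 φ) X Q).symm x' ≫ ρ := by
      apply H819.BcGL.matO_injective (sp0 φ)
      rw [← hmul, ← hmul, hx]
    rw [cancel_mono] at h1
    exact (bcEquiv (sp0 φ) X Q).symm.injective h1
  · rw [← Category.assoc, hmul, comp_up, MulEquiv.symm_apply_apply, Category.assoc]
    have h1 := hρ _ (lo φ x)
    change mat (T := (Over.map (sp0 φ)).obj X) _ = _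
    rw [h1, dsChar_lo, val, val]
    refine Finset.sum_congr rfl fun l _ => ?_
    congr 1
    ext a b
    exact st_mk φ X _

lemma exists_N_aux (κ : Type u) [Field κ] (b p : ℕ) (hp : 1 < p) (h0 : (p : κ) ≠ 0) :
    ∃ N : ℕ, (N : κ) ≠ 0 ∧ b < N ∧ 0 < N := by
  refine ⟨p ^ b, ?_, Nat.lt_pow_self hp, Nat.pow_pos (by omega)⟩
  rw [Nat.cast_pow]
  exact pow_ne_zero _ h0

/-- a prime power, invertible at a given point, larger than a given bound -/
lemma exists_N (κ : Type u) [Field κ] (b : ℕ) : ∃ N : ℕ, (N : κ) ≠ 0 ∧ b < N ∧ 0 < N := by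
  by_cases h2 : ((2 : ℕ) : κ) = 0
  · refine exists_N_aux κ b 3 (by omega) fun h3 => ?_
    have h4 : ((3 : ℕ) : κ) = ((2 : ℕ) : κ) + 1 := by
      push_cast
      norm_num
    rw [h3, h2, zero_add] at h4
    exact one_ne_zero h4.symm
  · exact exists_N_aux κ b 2 (by omega) h2

/-- a bound for the differences of weights -/
lemma exists_bound {r : ℕ} (Λ : Finset (Fin r → ℤ)) :
    ∃ b : ℕ, ∀ l ∈ Λ, ∀ k ∈ Λ, ∀ i, |l i - k i| ≤ b := by
  classical
  obtain ⟨M, hM⟩ := Finset.exists_le (((Λ ×ˢ Λ) ×ˢ (Finset.univ : Finset (Fin r))).image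
    fun x => |x.1.1 x.2 - x.1.2 x.2|)
  refine ⟨M.toNat, fun l hl k hk i => ?_⟩
  refine (hM _ (Finset.mem_image.2 ⟨((l, k), i), ?_, rfl⟩)).trans (Int.self_le_toNat M)
  simp [hl, hk]

/-- étale neighbourhoods with a primitive root of unity -/
theorem exists_etale_root (R : Type u) [CommRing R] (s : Spec (CommRingCat.of R)) (b : ℕ) :
    ∃ (N : ℕ) (B : Type u) (_ : CommRing B) (φ : R →+* B) (ζ : Bˣ), b < N ∧ Etale (sp0 φ) ∧
      s ∈ Set.range (sp0 φ) ∧ IsUnit (N : B) ∧ ζ ^ N = 1 ∧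
      ∀ (K : Type u) [Field K] (φ : B →+* K), IsPrimitiveRoot (φ (ζ : B)) N := by
  obtain ⟨N, hN0, hbN, hNpos⟩ := exists_N (s.asIdeal.ResidueField) b
  let B₀ := Localization.Away (N : R)
  have hB₀ : IsUnit (N : B₀) := by
    have := IsLocalization.Away.algebraMap_isUnit (S := B₀) (N : R)
    rwa [map_natCast] at this
  let B := AdjoinRoot (Polynomial.cyclotomic N B₀)
  have hne : NeZero N := ⟨hNpos.ne'⟩
  let ζ : Bˣ := Units.ofPowEqOne _ N (H518.TorsSplit.root_pow N B₀) hNpos.ne'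
  have hζ : ζ ^ N = 1 := Units.pow_ofPowEqOne (H518.TorsSplit.root_pow N B₀) hNpos.ne'
  have hff := H518.TorsSplit.faithfullyFlat N B₀ hNpos
  have het := H803.EtTors.etale_cyclotomic N B₀ hB₀
  have het0 : Algebra.Etale R B₀ := Algebra.Etale.of_isLocalizationAway (N : R)
  refine ⟨N, B, inferInstance, (algebraMap B₀ B).comp (algebraMap R B₀), ζ, hbN, ?_, ?_, ?_, hζ, ?_⟩
  · have h1 : sp0 ((algebraMap B₀ B).comp (algebraMap R B₀)) = sp0 (algebraMap B₀ B) ≫ sp0 (algebraMap R B₀) := by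
      simp only [sp0, CommRingCat.ofHom_comp, Spec.map_comp]
    have h2 : Etale (sp0 (algebraMap B₀ B)) := by
      rw [HasRingHomProperty.Spec_iff (P := @Etale)]
      exact (RingHom.etale_algebraMap (R := B₀) (S := B)).2 het
    have h3 : Etale (sp0 (algebraMap R B₀)) := by
      rw [HasRingHomProperty.Spec_iff (P := @Etale)]
      exact (RingHom.etale_algebraMap (R := R) (S := B₀)).2 het0
    rw [h1]
    infer_instance
  · have h1 : s ∈ Set.range (sp0 (algebraMap R B₀)) := by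
      have h2 : Set.range (PrimeSpectrum.comap (algebraMap R B₀)) = PrimeSpectrum.basicOpen (N : R) :=
        PrimeSpectrum.localization_away_comap_range _ _
      have h3 : s ∈ (PrimeSpectrum.basicOpen (N : R) : Set (PrimeSpectrum R)) := by
        change (N : R) ∉ s.asIdeal
        intro h4
        apply hN0
        have h5 := Ideal.algebraMap_residueField_eq_zero.2 h4
        rwa [map_natCast] at h5
      rw [← h2] at h3
      exact h3
    obtain ⟨s', hs'⟩ := h1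
    obtain ⟨s'', hs''⟩ := PrimeSpectrum.comap_surjective_of_faithfullyFlat (A := B₀) (B := B) s'
    refine ⟨s'', ?_⟩
    rw [← hs', ← hs'']
    rfl
  · have := hB₀.map (algebraMap B₀ B)
    rwa [map_natCast] at this
  · intro K _ φ
    exact H518.TorsSplit.isPrimitiveRoot N B₀ hB₀ φ

/-- Being self-centralizing passes along a morphism of sources. -/
lemma selfC_of_comp {S : Scheme.{u}} {T T' G : Over S} [GrpObj G] (e : T' ⟶ T) {i : T ⟶ G} {i' : T' ⟶ G}
    (h : e ≫ i = i') (hs : MaxTorBc636.SelfC i') : MaxTorBc636.SelfC i := by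
  intro X g hg
  obtain ⟨t, ht⟩ := hs X g fun X' x t => by
    rw [← h, ← Category.assoc t]
    exact hg X' x (t ≫ e)
  exact ⟨t ≫ e, by rw [Category.assoc, h, ht]⟩

/-- Being self-centralizing passes to the base change. -/
theorem selfC_up {R B : Type u} [CommRing R] [CommRing B] (φ : R →+* B) {M : Type} [AddCommGroup M]
    {Q : Over (Spec (CommRingCat.of R))} [GrpObj Q] {τ : Red.DS (Spec (CommRingCat.of R)) M ⟶ Q}
    (h : MaxTorBc636.SelfC τ) : MaxTorBc636.SelfC (up φ τ) :=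
  selfC_of_comp _ (iso_up φ τ) (MaxTorBc636.selfC_bc (sp0 φ) h)

/-- The output. -/
structure Local {B : Type u} [CommRing B] {Q : Over (Spec (CommRingCat.of B))} [GrpObj Q] {r : ℕ}
    (τ : Red.DS (Spec (CommRingCat.of B)) (Fin r → ℤ) ⟶ Q) {𝒯 : Over (Spec (CommRingCat.of B))} (q : Q ⟶ 𝒯) :
    Prop where
  isAffine : IsAffine 𝒯.left
  isAffineHom : IsAffineHom 𝒯.hom
  smooth : Smooth 𝒯.hom
  smooth_q : Smooth q.left
  surjective_q : Surjective q.left
  eQ : MaxTorBc636.SelfC τ → H813.RepCrit.EQ τ q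

/-- **The quotient by the normaliser of the torsion, over a base with enough roots of unity.** -/
theorem exists_global {B : Type u} [CommRing B] {m : Type u} [Fintype m] [DecidableEq m]
    {Q : Over (Spec (CommRingCat.of B))} [GrpObj Q] [Smooth Q.hom] [IsSeparated Q.hom] [QuasiCompact Q.hom]
    (ρ : Q ⟶ GLS m (Spec (CommRingCat.of B))) [IsMonHom ρ] [Mono ρ] {r : ℕ}
    (τ : Red.DS (Spec (CommRingCat.of B)) (Fin r → ℤ) ⟶ Q) (hmax : Red.IsMaximalTorus τ)
    {Λ : Finset (Fin r → ℤ)} {e : (Fin r → ℤ) → Matrix m m B} (he : IsWt Λ e)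
    (hρ : ∀ (X : Over (Spec (CommRingCat.of B))) (x : X ⟶ Red.DS _ (Fin r → ℤ)),
        mat (x ≫ τ ≫ ρ) = val (st X) Λ e (dsChar x))
    (N : ℕ) (hb : ∀ l ∈ Λ, ∀ k ∈ Λ, ∀ i, |l i - k i| < N) (hN : IsUnit (N : B)) (h0 : 0 < N) (ζ : Bˣ)
    (hζ : ζ ^ N = 1) (hprim : ∀ (K : Type u) [Field K] (φ : B →+* K), IsPrimitiveRoot (φ (ζ : B)) N) :
    ∃ (𝒯 : Over (Spec (CommRingCat.of B))) (q : Q ⟶ 𝒯), Local τ q := by
  have hne : NeZero N := ⟨h0.ne'⟩
  have hτm := hmax.1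
  have hmo : Mono τ := hmax.2.1
  have hs : Sep (chiR (H518.TorsSplit.psi ζ hζ r)) Λ := TorsPt.sep_psi ζ hζ hprim hN Λ hb
  have hinj : ∀ (X : Over (Spec (CommRingCat.of B))) (hX : Nonempty X.left) (γ : Multiplicative (Fin r → ZMod N)),
      toUnit X ≫ H518.TorsSplit.psi ζ hζ r γ = 1 → γ = 1 := fun X hX γ h =>
    H518.TorsSplit.eq_one_of_comp_psi ζ hζ hprim X γ h
  have hfree : ∀ (K : Type u) [Field K] (f : Spec (.of K) ⟶ Spec (CommRingCat.of B))
      (γ : Multiplicative (Fin r → ZMod N)),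
      toUnit (Over.mk f) ≫ H803.EtTors.mapSec τ (H518.TorsSplit.psi ζ hζ r) γ = 1 → γ = 1 := by
    intro K _ f γ h
    refine hinj (Over.mk f) (inferInstanceAs (Nonempty (Spec (.of K)))) γ ?_
    rw [H803.EtTors.mapSec_apply, ← Category.assoc] at h
    rw [← cancel_mono τ, h, MonObj.one_comp]
  have hcard : Nat.card (Multiplicative (Fin r → ZMod N)) = N ^ r := by
    rw [Nat.card_eq_fintype_card, Fintype.card_multiplicative, Fintype.card_pi_const, ZMod.card]
  have hn : H797.HomFin.Inv (Nat.card (Multiplicative (Fin r → ZMod N))) (Spec (CommRingCat.of B)) := by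
    have h1 : IsUnit (((N ^ r : ℕ) : ℕ) : B) := by
      rw [Nat.cast_pow]
      exact hN.pow r
    have h2 := h1.map (Scheme.ΓSpecIso (CommRingCat.of B)).inv.hom
    rw [map_natCast] at h2
    rw [hcard]
    exact h2
  have hval := valHyp ρ τ hmax he hρ (H518.TorsSplit.psi ζ hζ r) hs N (TorsPt.pow_eq_one r)
    (fun V _ _ φ x hx => TorsPt.exists_of_pow ζ hζ hprim V φ x hx)
    (fun V _ _ φ γ h => hinj (SP φ) (inferInstanceAs (Nonempty (Spec (CommRingCat.of V)))) γ h)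
    (H803.EtTors.mapSec τ (H518.TorsSplit.psi ζ hζ r)) (fun γ => H803.EtTors.mapSec_apply _ _ γ)
  obtain ⟨𝒯, q, h1, h2, h3, h4, h5, h6⟩ := H819.ClosedOrbit.exists_quot (Spec (CommRingCat.of B)) ρ hn
    (H803.EtTors.mapSec τ (H518.TorsSplit.psi ζ hζ r)) hfree hval
  refine ⟨𝒯, q, h1, h2, h3, h4, h5, fun hself => ?_⟩
  refine H819.EqTrans.eQ_of_tors ρ τ he hρ (H518.TorsSplit.psi ζ hζ r) hs
    (fun γ => H803.EtTors.mapSec_apply _ _ γ) hself (TorsPt.pow_eq_one r)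
    (H819.EqTrans.tors_of_gen fun X t ht x => H518.TorsSplit.exists_open ζ hζ hprim hN X t ht x) hfree h6

/-- **Étale-local representability of the functor of maximal tori of a linear group.** -/
theorem exists_local {R : Type u} [CommRing R] {m : Type u} [Fintype m] [DecidableEq m]
    {Q : Over (Spec (CommRingCat.of R))} [GrpObj Q] [Smooth Q.hom] [IsSeparated Q.hom] [QuasiCompact Q.hom]
    (ρ : Q ⟶ GLS m (Spec (CommRingCat.of R))) [IsMonHom ρ] [Mono ρ] {r : ℕ}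
    (τ : Red.DS (Spec (CommRingCat.of R)) (Fin r → ℤ) ⟶ Q) (hmax : Red.IsMaximalTorus τ)
    (s : Spec (CommRingCat.of R)) :
    ∃ (B : Type u) (_ : CommRing B) (φ : R →+* B), Etale (sp0 φ) ∧ s ∈ Set.range (sp0 φ) ∧
      ∃ (𝒯 : Over (Spec (CommRingCat.of B))) (q : Red.bc (sp0 φ) Q ⟶ 𝒯), Local (up φ τ) q := by
  have hτm := hmax.1
  obtain ⟨Λ, e, he, hρ⟩ := exists_isWt (τ ≫ ρ)
  obtain ⟨b, hb⟩ := exists_bound Λ
  obtain ⟨N, B, _, φ, ζ, hbN, hφ, hs, hN, hζ, hprim⟩ := exists_etale_root R s b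
  obtain ⟨ρ', hρm, hρmono, -, hρ'⟩ := exists_rho φ ρ τ hρ
  have hQs : Smooth (Red.bc (sp0 φ) Q).hom := inferInstanceAs (Smooth (pullback.snd Q.hom (sp0 φ)))
  have hQsep : IsSeparated (Red.bc (sp0 φ) Q).hom := inferInstanceAs (IsSeparated (pullback.snd Q.hom (sp0 φ)))
  have hQqc : QuasiCompact (Red.bc (sp0 φ) Q).hom := inferInstanceAs (QuasiCompact (pullback.snd Q.hom (sp0 φ)))
  refine ⟨B, inferInstance, φ, hφ, hs, ?_⟩
  exact exists_global ρ' (up φ τ) (isMaximalTorus_up φ τ hmax) (he.map φ) hρ' N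
    (fun l hl k hk i => (hb l hl k hk i).trans_lt (by exact_mod_cast hbN)) hN (by omega) ζ hζ hprim

end Groth.Agent.Sga3.H832.RTLoc
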