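import Groth.Agent.Sga3.H832.ClosedCore
import Groth.Agent.Sga3.H832.HensPt

/-!
# Integral points of `H` whose generic and closed points are in a subgroup `G` with a torus `T`, `Z(T) = T`

`R` a henselian local ring with an algebra `K` (the fraction field in applications), `u : G ⟶ H` a monomorphism,
`G` smooth separated, `i : T ⟶ G` a torus.  Assume (A) homomorphisms `T ⟶ H` which are generically in `G` are in
`G`; (T) the points of `H(R)` whose generic and closed points are in `T` are in `T(R)`; (Z) the points of `G(K)`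
centralizing `T_K` are in `T(K)`.  Then every point of `H(R)` whose generic and closed points are in `G` is in `G(R)`.
-/

set_option autoImplicit false
universe u
open CategoryTheory MonoidalCategory CartesianMonoidalCategory MonObj GrpObj AlgebraicGeometry Limits

namespace Groth.Agent.Sga3.H832.ImmCore

open TorExt PowRange ClosedCore HensPt

variable {R K : Type u} [CommRing R] [Field K] [Algebra R K] [HenselianLocalRing R]
  {G H T : Over (Spec (CommRingCat.of R))} [GrpObj G] [GrpObj H] [GrpObj T]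

theorem mem_of_generic_of_closed [Smooth G.hom] [IsSeparated G.hom]
    (u : G ⟶ H) [IsMonHom u] [Mono u] (i : T ⟶ G) [IsMonHom i] (hT0 : Red.IsTorus T)
    (hA : ∀ φ : T ⟶ H, IsMonHom φ → (∃ ψ : T ⊗ gen R K ⟶ G, ψ ≫ u = fst _ _ ≫ φ) → ∃ j : T ⟶ G, j ≫ u = φ)
    (hT : ∀ (t : gen R K ⟶ T) (h : 𝟙_ (Over (Spec (CommRingCat.of R))) ⟶ H), t ≫ i ≫ u = toUnit _ ≫ h →
      h.left (IsLocalRing.closedPoint R) ∈ Set.range (i ≫ u).left →
        ∃ t' : 𝟙_ (Over (Spec (CommRingCat.of R))) ⟶ T, t' ≫ i ≫ u = h)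
    (hZ : ∀ z : gen R K ⟶ G, (∀ (X : Over (Spec (CommRingCat.of R))) (x : X ⟶ gen R K) (t : X ⟶ T),
        (x ≫ z) * (t ≫ i) * (x ≫ z)⁻¹ = t ≫ i) → ∃ t : gen R K ⟶ T, t ≫ i = z)
    (h : 𝟙_ (Over (Spec (CommRingCat.of R))) ⟶ H) (gK : gen R K ⟶ G) (hgK : gK ≫ u = toUnit _ ≫ h)
    (gk : clo R ⟶ G) (hgk : gk ≫ u = toUnit _ ≫ h) :
    ∃ g : 𝟙_ (Over (Spec (CommRingCat.of R))) ⟶ G, g ≫ u = h := by
  obtain ⟨g₁, hg₁⟩ := exists_lift gk
  let h₁ : 𝟙_ (Over (Spec (CommRingCat.of R))) ⟶ H := (g₁ ≫ u)⁻¹ * h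
  let g' : gen R K ⟶ G := (toUnit _ ≫ g₁)⁻¹ * gK
  have hg' : g' ≫ u = toUnit _ ≫ h₁ := by
    simp only [g', h₁, MonObj.mul_comp, GrpObj.inv_comp, Category.assoc, hgK, MonObj.comp_mul, GrpObj.comp_inv]
  have h₁k : toUnit (clo R) ≫ h₁ = 1 := by
    simp only [h₁, MonObj.comp_mul, GrpObj.comp_inv]
    rw [← Category.assoc, hg₁, hgk, inv_mul_cancel]
  -- the conjugate torus is in `G`
  obtain ⟨j, hj⟩ := hA (cj h₁ (i ≫ u)) (isMonHom_cj h₁ (i ≫ u))
    ⟨(snd _ _ ≫ g') * (fst _ _ ≫ i) * (snd _ _ ≫ g')⁻¹, by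
      rw [comp_cj, MonObj.mul_comp, MonObj.mul_comp, GrpObj.inv_comp, Category.assoc, hg', ← Category.assoc,
        comp_toUnit, Category.assoc]⟩
  have hj4 : IsMonHom j := isMonHom_of_mul _ fun X x y => by
    have hj1 : IsMonHom (j ≫ u) := by rw [hj]; exact isMonHom_cj h₁ (i ≫ u)
    rw [← cancel_mono u, Category.assoc, MonObj.mul_comp, MonObj.mul_comp, Category.assoc, Category.assoc]
  -- `i` and `j` agree on the closed fibre
  obtain ⟨g₂, hg₂, hg₂'⟩ := exists_transp hT0 i j (by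
    rw [← cancel_mono u, Category.assoc, Category.assoc, hj, comp_cj,
      show toUnit (T ⊗ clo R) = snd _ _ ≫ toUnit (clo R) from (comp_toUnit _).symm, Category.assoc, h₁k,
      MonObj.comp_one]
    group)
  -- conjugation by `g'`
  have key : ∀ (X : Over (Spec (CommRingCat.of R))) (x : X ⟶ gen R K) (t : X ⟶ T),
      (x ≫ g') * (t ≫ i) * (x ≫ g')⁻¹ = t ≫ j := by
    intro X x t
    rw [← cancel_mono u, MonObj.mul_comp, MonObj.mul_comp, GrpObj.inv_comp, Category.assoc, Category.assoc,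
      Category.assoc, hj, comp_cj, hg', ← Category.assoc x, comp_toUnit]
  have key2 : ∀ (X : Over (Spec (CommRingCat.of R))) (t : X ⟶ T),
      (toUnit X ≫ g₂) * (t ≫ i) * (toUnit X ≫ g₂)⁻¹ = t ≫ j := by
    intro X t
    have h1 := congrArg (fun f => t ≫ f) hg₂'
    simp only [MonObj.comp_mul, GrpObj.comp_inv] at h1
    rwa [← Category.assoc, comp_toUnit] at h1
  obtain ⟨t, ht⟩ := hZ ((toUnit _ ≫ g₂)⁻¹ * g') (fun X x t => by
    have h1 := key X x t
    have h2 := key2 X t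
    rw [← h1] at h2
    rw [MonObj.comp_mul, GrpObj.comp_inv, ← Category.assoc, comp_toUnit]
    have h3 : t ≫ i = (toUnit X ≫ g₂)⁻¹ * ((x ≫ g') * (t ≫ i) * (x ≫ g')⁻¹) * (toUnit X ≫ g₂) := by
      rw [← h2]; group
    conv_rhs => rw [h3]
    group)
  let h₂ : 𝟙_ (Over (Spec (CommRingCat.of R))) ⟶ H := (g₂ ≫ u)⁻¹ * h₁
  have h₂k : toUnit (clo R) ≫ h₂ = 1 := by
    simp only [h₂, MonObj.comp_mul, GrpObj.comp_inv, h₁k]
    rw [← Category.assoc, hg₂, MonObj.one_comp]
    group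
  obtain ⟨t', ht'⟩ := hT t h₂ (by
    rw [← Category.assoc, ht, MonObj.mul_comp, GrpObj.inv_comp, hg']
    simp only [h₂, h₁, MonObj.comp_mul, GrpObj.comp_inv, Category.assoc]) (by
    have h3 : (1 : clo R ⟶ T) ≫ (i ≫ u) = toUnit (clo R) ≫ h₂ := by rw [MonObj.one_comp, h₂k]
    have h4 := congrArg (fun f : clo R ⟶ H => f.left (IsLocalRing.closedPoint (IsLocalRing.ResidueField R))) h3
    simp only [Over.comp_left, Scheme.Hom.comp_apply] at h4
    have h5 : (toUnit (clo R)).left (IsLocalRing.closedPoint (IsLocalRing.ResidueField R)) =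
        IsLocalRing.closedPoint R := by
      rw [Over.toUnit_left]
      exact IsLocalRing.comap_closedPoint (IsLocalRing.residue R)
    rw [h5] at h4
    rw [← h4]
    exact ⟨_, rfl⟩)
  refine ⟨g₁ * g₂ * (t' ≫ i), ?_⟩
  rw [MonObj.mul_comp, MonObj.mul_comp, Category.assoc, ht']
  simp only [h₂, h₁]
  group

end Groth.Agent.Sga3.H832.ImmCore
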