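import Groth.Agent.Sga3.H832.HensVal
import Groth.Agent.Sga3B.TorusEtLoc920
import Groth.Agent.Pi1C.StrictHensPoint
import Mathlib.AlgebraicGeometry.Morphisms.UniversallyOpen
import Mathlib.AlgebraicGeometry.PullbackCarrier
import Mathlib.RingTheory.Valuation.LocalSubring

/-!
# Enlarging valuation rings

* `exists_valuationRing`: a local domain `R`, a flat `q : S' ⟶ S` and `y : Spec R ⟶ S` with closed point in
  the image of `q`: there are a valuation ring `R₁` with algebraically closed fraction field, an injective local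
  homomorphism `R → R₁` and a lift `Spec R₁ ⟶ S'` of `y`.
* `exists_isSplitTorusWith`: tori over strictly henselian local rings are split.
-/

set_option autoImplicit false

universe u

open CategoryTheory AlgebraicGeometry Limits IsLocalRing

namespace Groth.Agent.Sga3.H832.ValExt

/-- Specialisations in a scheme over a local domain: domination by a valuation ring with algebraically closed
fraction field. -/
theorem exists_valuationRing_of_specializes {X : Scheme.{u}} {R : Type u} [CommRing R] [IsDomain R] [IsLocalRing R]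
    (f : X ⟶ Spec (CommRingCat.of R)) (x z : X) (hxz : x ⤳ z) (hz : f z = closedPoint R)
    (hx : (f x).asIdeal = ⊥) :
    ∃ (R₁ K₁ : Type u) (_ : CommRing R₁) (_ : IsDomain R₁) (_ : ValuationRing R₁) (_ : Field K₁)
      (_ : IsAlgClosed K₁) (_ : Algebra R₁ K₁) (_ : IsFractionRing R₁ K₁) (φ : R →+* R₁)
      (n : Spec (CommRingCat.of R₁) ⟶ X),
      Function.Injective φ ∧ IsLocalHom φ ∧ n ≫ f = Spec.map (CommRingCat.ofHom φ) ∧
        n (closedPoint R₁) = z := by
  let L := AlgebraicClosure (X.residueField x)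
  let χ : X.presheaf.stalk z ⟶ CommRingCat.of L :=
    X.presheaf.stalkSpecializes hxz ≫ X.residue x ≫ CommRingCat.ofHom (algebraMap (X.residueField x) L)
  obtain ⟨A, hA, hA_local⟩ := exists_factor_valuationRing χ.hom
  let ψ : X.presheaf.stalk z ⟶ .of A := CommRingCat.ofHom (χ.hom.codRestrict _ hA)
  let n : Spec (CommRingCat.of A) ⟶ X := Spec.map ψ ≫ X.fromSpecStalk z
  have hn : n (closedPoint A) = z := by
    simp only [n, Scheme.Hom.comp_base, TopCat.coe_comp, Function.comp_apply]
    have : Spec.map ψ (closedPoint A) = closedPoint (X.presheaf.stalk z) :=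
      comap_closedPoint (S := A) (χ.hom.codRestrict A.toSubring hA)
    rw [this, X.fromSpecStalk_closedPoint]
  have w : Spec.map (CommRingCat.ofHom (algebraMap A L)) ≫ n =
      Spec.map (CommRingCat.ofHom (algebraMap (X.residueField x) L)) ≫ X.fromSpecResidueField x := by
    rw [Scheme.fromSpecResidueField, ← Scheme.SpecMap_stalkSpecializes_fromSpecStalk hxz]
    simp_rw [n, ← Spec.map_comp_assoc]
    congr 2
  obtain ⟨φ, hφ⟩ := Spec.map_surjective (n ≫ f)
  have hbot : ∀ p : Spec (CommRingCat.of L), (n ≫ f) (Spec.map (CommRingCat.ofHom (algebraMap A L)) p) = f x := by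
    intro p
    rw [← Scheme.Hom.comp_apply, ← Category.assoc, w, Scheme.Hom.comp_apply, Scheme.Hom.comp_apply]
    congr 1
    exact Scheme.fromSpecResidueField_apply _ _
  refine ⟨A, L, inferInstance, inferInstance, inferInstance, inferInstance, inferInstance, inferInstance,
    inferInstance, φ.hom, n, ?_, ?_, hφ.symm, hn⟩
  · rw [injective_iff_map_eq_zero]
    intro a ha
    have h1 := hbot (closedPoint L)
    rw [← hφ] at h1
    have h2 : a ∈ (f x).asIdeal := by
      rw [← h1]
      change algebraMap A L (φ.hom a) ∈ (closedPoint L).asIdeal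
      rw [ha, map_zero]
      exact Ideal.zero_mem _
    rw [hx] at h2
    exact h2
  · rw [isLocalHom_iff_comap_closedPoint]
    have h1 : (n ≫ f) (closedPoint A) = closedPoint R := by
      rw [Scheme.Hom.comp_apply, hn, hz]
    rw [← hφ] at h1
    exact h1

/-- Domination of a flat base change by a valuation ring with algebraically closed fraction field. -/
theorem exists_valuationRing {S S' : Scheme.{u}} (q : S' ⟶ S) [Flat q] {R : Type u} [CommRing R] [IsDomain R]
    [IsLocalRing R] (y : Spec (CommRingCat.of R) ⟶ S) (hy : y (closedPoint R) ∈ Set.range q) :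
    ∃ (R₁ K₁ : Type u) (_ : CommRing R₁) (_ : IsDomain R₁) (_ : ValuationRing R₁) (_ : Field K₁)
      (_ : IsAlgClosed K₁) (_ : Algebra R₁ K₁) (_ : IsFractionRing R₁ K₁) (φ : R →+* R₁)
      (y₁ : Spec (CommRingCat.of R₁) ⟶ S'),
      Function.Injective φ ∧ IsLocalHom φ ∧ y₁ ≫ q = Spec.map (CommRingCat.ofHom φ) ≫ y := by
  obtain ⟨s', hs'⟩ := hy
  obtain ⟨z, -, hz⟩ := Scheme.Pullback.exists_preimage_pullback (f := q) (g := y) s' (closedPoint R) hs'
  let g₀ : Spec (CommRingCat.of R) := ⟨⊥, Ideal.isPrime_bot⟩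
  have hg₀ : g₀ ⤳ closedPoint R := specializes_closedPoint _
  obtain ⟨x, hxz, hx⟩ := Flat.generalizingMap (pullback.snd q y) (show g₀ ⤳ pullback.snd q y z by rwa [hz])
  obtain ⟨R₁, K₁, _, _, _, _, _, _, _, φ, n, h1, h2, h3, -⟩ :=
    exists_valuationRing_of_specializes (pullback.snd q y) x z hxz hz (by rw [hx])
  exact ⟨R₁, K₁, inferInstance, inferInstance, inferInstance, inferInstance, inferInstance, inferInstance,
    inferInstance, φ, n ≫ pullback.fst q y, h1, h2, by rw [Category.assoc, pullback.condition, ← Category.assoc, h3]⟩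

/-- Tori over strictly henselian local rings are split. -/
theorem exists_isSplitTorusWith {R : Type u} [CommRing R] [HenselianLocalRing R] [IsSepClosed (ResidueField R)]
    {T : Over (Spec (CommRingCat.of R))} [GrpObj T] (hT : Red.IsTorus T) :
    ∃ r : ℕ, Red.IsSplitTorusWith (Fin r → ℤ) T := by
  obtain ⟨B, _, v, r, hv, ⟨p, hp⟩, hsp⟩ := Sga3B.TorusEtLoc920.exists_etale_split T hT (closedPoint R)
  obtain ⟨t, ht, -⟩ := Pi1C.StrictHensPoint.exists_lift_of_etale v p R (𝟙 _) (by rw [hp]; rfl)
  obtain ⟨e⟩ := hsp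
  have h2 : Nonempty (Grp.mk (Red.bc t (Red.bc v T)) ≅ Grp.mk (Red.DS (Spec (CommRingCat.of R)) (Fin r → ℤ))) :=
    Sga3B.TorusAlgClosed.isSplitTorusWith_bc t ⟨e⟩
  obtain ⟨e'⟩ := h2
  exact ⟨r, ⟨(Sga3B.BcIso.bcIdIso T).symm ≪≫ Sga3B.BcIso.bcCongrIso ht.symm T ≪≫
    Sga3B.BcIso.bcCompIso t v T ≪≫ e'⟩⟩

end Groth.Agent.Sga3.H832.ValExt
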