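import Groth.Agent.Sga3.H832.BcPt
import Groth.Agent.Sga3.H832.SelfCent
import Groth.Agent.Sga3.H832.ImmCore
import Groth.Agent.Sga3.H832.ValExt
import Groth.Agent.Sga3.H824.ImmVal
import Groth.Agent.Sga3C.GrpSep
import Groth.Agent.Sga3C.GrpIrr

/-!
# Monomorphisms out of groups of unipotent rank zero are immersions (assembly)

`TProp`, `AProp`: the two statements over valuation rings; `isImmersion_of`: the statement S4144 from them.
-/

set_option autoImplicit false
universe u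
open CategoryTheory MonoidalCategory CartesianMonoidalCategory MonObj GrpObj AlgebraicGeometry Limits

namespace Groth.Agent.Sga3.H832.Asm4144

open TorExt PowRange ClosedCore HensPt SelfCent BcPt
open Groth.Agent.Sga3B Groth.Agent.Sga3B.MaxTorBc636

/-- (T) integral points of `H` whose generic and closed points are in a split torus `T ⟶ H` are in `T`. -/
def TProp : Prop :=
  ∀ (R K : Type u) [CommRing R] [IsDomain R] [ValuationRing R] [Field K] [IsAlgClosed K] [Algebra R K]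
    [IsFractionRing R K] (H T : Over (Spec (CommRingCat.of R))) [GrpObj H] [GrpObj T] (r : ℕ),
    Red.IsSplitTorusWith (Fin r → ℤ) T → ∀ (v : T ⟶ H) [IsMonHom v] [Mono v]
      (t : gen R K ⟶ T) (h : 𝟙_ (Over (Spec (CommRingCat.of R))) ⟶ H), t ≫ v = toUnit _ ≫ h →
      h.left (IsLocalRing.closedPoint R) ∈ Set.range v.left →
        ∃ t' : 𝟙_ (Over (Spec (CommRingCat.of R))) ⟶ T, t' ≫ v = h

/-- (A) homomorphisms from a split torus to `H` which are generically in `G` are in `G`. -/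
def AProp : Prop :=
  ∀ (R K : Type u) [CommRing R] [IsDomain R] [ValuationRing R] [Field K] [IsAlgClosed K] [Algebra R K]
    [IsFractionRing R K] (G H T : Over (Spec (CommRingCat.of R))) [GrpObj G] [GrpObj H] [GrpObj T] (r : ℕ),
    Red.IsSplitTorusWith (Fin r → ℤ) T → ∀ (u : G ⟶ H) [IsMonHom u] [Mono u] [QuasiCompact u.left]
      [LocallyOfFiniteType u.left] (φ : T ⟶ H) [IsMonHom φ],
      (∃ ψ : T ⊗ gen R K ⟶ G, ψ ≫ u = fst _ _ ≫ φ) → ∃ j : T ⟶ G, j ≫ u = φ

section selfC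

variable {S S' : Scheme.{u}} (e₀ : S' ⟶ S)

/-- the unit object of the base change, over the base -/
noncomputable def unitMap : Over.mk e₀ ⟶ (Over.map e₀).obj (𝟙_ (Over S')) :=
  Over.homMk (𝟙 _) (by change 𝟙 _ ≫ 𝟙 _ ≫ e₀ = e₀; rw [Category.id_comp, Category.id_comp])

noncomputable def unitMap' : (Over.map e₀).obj (𝟙_ (Over S')) ⟶ Over.mk e₀ :=
  Over.homMk (𝟙 _) (by change 𝟙 _ ≫ e₀ = 𝟙 _ ≫ e₀; rfl)

lemma unitMap_comp : unitMap e₀ ≫ unitMap' e₀ = 𝟙 _ := by
  ext1
  exact Category.id_comp _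

/-- Points over `S'` commuting with a subgroup which is self-centralizing over `S'`. -/
theorem exists_factor_of_selfC {T G : Over S} [GrpObj T] [GrpObj G] (i : T ⟶ G)
    (h : SelfC ((Over.pullback e₀).map i)) (z : Over.mk e₀ ⟶ G)
    (hz : ∀ (X : Over S) (x : X ⟶ Over.mk e₀) (t : X ⟶ T), (x ≫ z) * (t ≫ i) * (x ≫ z)⁻¹ = t ≫ i) :
    ∃ t : Over.mk e₀ ⟶ T, t ≫ i = z := by
  obtain ⟨t₀, ht₀⟩ := h (𝟙_ _) (DSPts.bcEquiv e₀ (𝟙_ _) G (unitMap' e₀ ≫ z)) (by
    intro X x t
    apply (DSPts.bcEquiv e₀ X G).symm.injective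
    rw [map_mul, map_mul]
    have e1 : (DSPts.bcEquiv e₀ X G).symm (x ≫ DSPts.bcEquiv e₀ (𝟙_ _) G (unitMap' e₀ ≫ z)) =
        ((Over.map e₀).map x ≫ unitMap' e₀) ≫ z := by
      rw [DSPts.bcEquiv_naturality, MulEquiv.symm_apply_apply, Category.assoc]
    have e2 : (DSPts.bcEquiv e₀ X G).symm (t ≫ (Over.pullback e₀).map i) = (DSPts.bcEquiv e₀ X T).symm t ≫ i := by
      rw [MulEquiv.symm_apply_eq, ← DSPts.bcEquiv_comp, MulEquiv.apply_symm_apply]
    rw [e1, e2]
    have := hz _ ((Over.map e₀).map x ≫ unitMap' e₀) ((DSPts.bcEquiv e₀ X T).symm t)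
    rwa [mul_inv_eq_iff_eq_mul] at this)
  refine ⟨unitMap e₀ ≫ (DSPts.bcEquiv e₀ (𝟙_ _) T).symm t₀, ?_⟩
  have h1 : (DSPts.bcEquiv e₀ (𝟙_ _) T).symm t₀ ≫ i = unitMap' e₀ ≫ z := by
    apply (DSPts.bcEquiv e₀ (𝟙_ _) G).injective
    rw [← DSPts.bcEquiv_comp, MulEquiv.apply_symm_apply, ht₀]
  rw [Category.assoc, h1, ← Category.assoc, unitMap_comp, Category.id_comp]

end selfC

/-- The lifting statement over a valuation ring with algebraically closed fraction field. -/
theorem lift_core (hA : AProp.{u}) (hT : TProp.{u}) (R K : Type u) [CommRing R] [IsDomain R] [ValuationRing R]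
    [Field K] [IsAlgClosed K] [Algebra R K] [IsFractionRing R K]
    {G H T : Over (Spec (CommRingCat.of R))} [GrpObj G] [GrpObj H] [GrpObj T]
    [Smooth G.hom] [IsSeparated G.hom] (u : G ⟶ H) [IsMonHom u] [Mono u] [QuasiCompact u.left]
    [LocallyOfFiniteType u.left] (i : T ⟶ G) [IsMonHom i] [Mono i] (hT0 : Red.IsTorus T)
    (hs : SelfC ((Over.pullback (Spec.map (CommRingCat.ofHom (algebraMap R K)))).map i))
    (h : 𝟙_ (Over (Spec (CommRingCat.of R))) ⟶ H) (gK : gen R K ⟶ G) (hgK : gK ≫ u = toUnit _ ≫ h)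
    (gk : clo R ⟶ G) (hgk : gk ≫ u = toUnit _ ≫ h) :
    ∃ g : 𝟙_ (Over (Spec (CommRingCat.of R))) ⟶ G, g ≫ u = h := by
  have h1 : HenselianLocalRing R := HensVal.henselianLocalRing R K
  have h2 : IsAlgClosed (IsLocalRing.ResidueField R) := HensVal.isAlgClosed_residueField R K
  obtain ⟨r, hr⟩ := ValExt.exists_isSplitTorusWith hT0
  have h3 : Mono (i ≫ u) := mono_comp i u
  exact ImmCore.mem_of_generic_of_closed u i hT0 (fun φ hφ hψ => hA R K G H T r hr u φ hψ)
    (fun t h ht hh => hT R K H T r hr (i ≫ u) t h ht hh)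
    (fun z hz => exists_factor_of_selfC _ i hs z hz) h gK hgK gk hgk

/-- **S4144 from (A) and (T).** -/
theorem isImmersion_of (hA : AProp.{u}) (hT : TProp.{u}) (S : Scheme.{u}) (G H : Over S) [GrpObj G] [GrpObj H]
    [Smooth G.hom] [IsSeparated G.hom] (hu0 : SGA3x.UnipotentRankZero G) (hT0 : SGA3x.HasMaxTorusFpqcLocally G)
    (u : G ⟶ H) [IsMonHom u] [Mono u] [QuasiCompact u.left] [LocallyOfFiniteType u.left] : IsImmersion u.left := by
  refine H824.ImmVal.isImmersion_of_valuative u.left ?_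
  intro R _ _ _ K _ _ _ y a b ha hb
  obtain ⟨S', q, hq1, hq2, -, T', _, i', hi'⟩ := hT0
  let s : Spec (CommRingCat.of R) ⟶ S := y ≫ H.hom
  obtain ⟨R₁, K₁, _, _, _, _, _, _, _, φ, y₁, hφ, hφl, hy₁⟩ := ValExt.exists_valuationRing q s
    (hq2.surj _)
  -- the point `h` over `R₁`
  let h₀ : Spec (CommRingCat.of R₁) ⟶ H.left := Spec.map (CommRingCat.ofHom φ) ≫ y
  have hh₀ : h₀ ≫ H.hom = (𝟙_ (Over (Spec (CommRingCat.of R₁)))).hom ≫ y₁ ≫ q := by
    change (Spec.map (CommRingCat.ofHom φ) ≫ y) ≫ H.hom = 𝟙 _ ≫ y₁ ≫ q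
    rw [Category.id_comp, hy₁, Category.assoc]
  let h : 𝟙_ (Over (Spec (CommRingCat.of R₁))) ⟶ bc2 y₁ q H := pt2 y₁ q H h₀ hh₀
  have hh : h.left ≫ pr y₁ q H = h₀ := pt2_pr y₁ q H _ _
  -- the generic point
  let φK : K →+* K₁ := IsFractionRing.map (A := R) (B := R₁) (K := K) (L := K₁) (j := φ) hφ
  have hφK : φK.comp (algebraMap R K) = (algebraMap R₁ K₁).comp φ := by
    ext x
    exact IsLocalization.map_eq (nonZeroDivisors_le_comap_nonZeroDivisors_of_injective φ hφ) x
  have eK : Spec.map (CommRingCat.ofHom (algebraMap R₁ K₁)) ≫ Spec.map (CommRingCat.ofHom φ) =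
      Spec.map (CommRingCat.ofHom φK) ≫ Spec.map (CommRingCat.ofHom (algebraMap R K)) := by
    rw [← Spec.map_comp, ← Spec.map_comp, ← CommRingCat.ofHom_comp, ← CommRingCat.ofHom_comp, hφK]
  let aK : (gen R₁ K₁).left ⟶ G.left := Spec.map (CommRingCat.ofHom φK) ≫ a
  have haK : aK ≫ u.left = (toUnit (gen R₁ K₁)).left ≫ h₀ := by
    rw [Over.toUnit_left]
    change (Spec.map (CommRingCat.ofHom φK) ≫ a) ≫ u.left =
      Spec.map (CommRingCat.ofHom (algebraMap R₁ K₁)) ≫ Spec.map (CommRingCat.ofHom φ) ≫ y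
    rw [Category.assoc, ha, ← Category.assoc, ← eK, Category.assoc]
  have haK' : aK ≫ G.hom = (gen R₁ K₁).hom ≫ y₁ ≫ q := by
    rw [← Over.w u, ← Category.assoc, haK, Category.assoc, hh₀, ← Category.assoc, Over.w]
  -- the closed point
  let φk : IsLocalRing.ResidueField R →+* IsLocalRing.ResidueField R₁ := IsLocalRing.ResidueField.map φ
  have ek : Spec.map (CommRingCat.ofHom (IsLocalRing.residue R₁)) ≫ Spec.map (CommRingCat.ofHom φ) =
      Spec.map (CommRingCat.ofHom φk) ≫ Spec.map (CommRingCat.ofHom (IsLocalRing.residue R)) := by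
    rw [← Spec.map_comp, ← Spec.map_comp, ← CommRingCat.ofHom_comp, ← CommRingCat.ofHom_comp]
    congr 2
  let bk : (clo R₁).left ⟶ G.left := Spec.map (CommRingCat.ofHom φk) ≫ b
  have hbk : bk ≫ u.left = (toUnit (clo R₁)).left ≫ h₀ := by
    rw [Over.toUnit_left]
    change (Spec.map (CommRingCat.ofHom φk) ≫ b) ≫ u.left =
      Spec.map (CommRingCat.ofHom (IsLocalRing.residue R₁)) ≫ Spec.map (CommRingCat.ofHom φ) ≫ y
    rw [Category.assoc, hb, ← Category.assoc, ← ek, Category.assoc]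
  have hbk' : bk ≫ G.hom = (clo R₁).hom ≫ y₁ ≫ q := by
    rw [← Over.w u, ← Category.assoc, hbk, Category.assoc, hh₀, ← Category.assoc, Over.w]
  -- the data over `R₁`
  have i1 : Smooth (bc2 y₁ q G).hom := prop_bc2 y₁ q ‹Smooth G.hom›
  have i2 : IsSeparated (bc2 y₁ q G).hom := prop_bc2 y₁ q ‹IsSeparated G.hom›
  have i3 : QuasiCompact (bc2Map y₁ q u).left := prop_bc2Map y₁ q u ‹QuasiCompact u.left›
  have i4 : LocallyOfFiniteType (bc2Map y₁ q u).left := prop_bc2Map y₁ q u ‹LocallyOfFiniteType u.left›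
  have j1 : IsMonHom i' := hi'.1
  have j2 : Mono i' := hi'.2.1
  let i₁ : Red.bc y₁ T' ⟶ bc2 y₁ q G := (Over.pullback y₁).map i'
  have hs : SelfC ((Over.pullback (Spec.map (CommRingCat.ofHom (algebraMap R₁ K₁)))).map i₁) := by
    have h1 := selfC_geom q hu0 hi' (Spec.map (CommRingCat.ofHom (algebraMap R₁ K₁)) ≫ y₁)
    exact selfC_of_arrow (BcIso.bcCompIso (Spec.map (CommRingCat.ofHom (algebraMap R₁ K₁))) y₁ T')
      (BcIso.bcCompIso (Spec.map (CommRingCat.ofHom (algebraMap R₁ K₁))) y₁ (Red.bc q G))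
      (BcNat.comp_nat (Spec.map (CommRingCat.ofHom (algebraMap R₁ K₁))) y₁ i').symm h1
  obtain ⟨g, hg⟩ := lift_core hA hT R₁ K₁ (bc2Map y₁ q u) i₁ (TorusBc.isTorus_bc y₁ hi'.2.2.1) hs h
    (pt2 y₁ q G aK haK') (hom_ext2 y₁ q (by
      rw [Over.comp_left, Category.assoc, map_pr, ← Category.assoc, pt2_pr, haK, Over.comp_left, Category.assoc,
        hh]))
    (pt2 y₁ q G bk hbk') (hom_ext2 y₁ q (by
      rw [Over.comp_left, Category.assoc, map_pr, ← Category.assoc, pt2_pr, hbk, Over.comp_left, Category.assoc,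
        hh]))
  refine H824.ImmVal.exists_lift_of_extension u.left φ hφ y (g.left ≫ pr y₁ q G) ?_
  rw [Category.assoc, ← map_pr, ← Category.assoc, ← Over.comp_left, hg, hh]

/-- Smooth group schemes with connected fibres are separated. -/
theorem isSeparated_of_connected {S : Scheme.{u}} (G : Over S) [GrpObj G] [Smooth G.hom]
    (hconn : ∀ s : S, _root_.IsConnected (G.hom.base ⁻¹' {s})) : IsSeparated G.hom := by
  have hgrp : GrpObj (Over.mk G.hom) := inferInstanceAs (GrpObj G)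
  have hirr : GeometricallyIrreducible G.hom :=
    Groth.Agent.Sga3C.GrpIrr.geometricallyIrreducible_of_connected_fibres G.hom hconn
  exact Groth.Agent.Sga3C.GrpSep.isSeparated G

/-- Morphisms over `S` from a quasi-compact `G` are quasi-compact. -/
theorem quasiCompact_left {S : Scheme.{u}} {G H : Over S} [QuasiCompact G.hom] [LocallyOfFiniteType H.hom]
    (hH : QuasiSeparated H.hom ∨ IsLocallyNoetherian S) (u : G ⟶ H) : QuasiCompact u.left := by
  have hqs : QuasiSeparated H.hom := by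
    rcases hH with h | h
    · exact h
    · have : IsLocallyNoetherian H.left := LocallyOfFiniteType.isLocallyNoetherian H.hom
      infer_instance
  have h2 : QuasiCompact (u.left ≫ H.hom) := by rw [Over.w]; infer_instance
  exact QuasiCompact.of_comp u.left H.hom

theorem s4144 (hA : AProp.{u}) (hT : TProp.{u}) (S : Scheme.{u}) (G H : Over S) [GrpObj G] [GrpObj H]
    [Smooth G.hom] [QuasiCompact G.hom] (hu0 : SGA3x.UnipotentRankZero G)
    (hT0 : SGA3x.HasMaxTorusFpqcLocally G) (hconn : ∀ s : S, _root_.IsConnected (G.hom.base ⁻¹' {s}))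
    [LocallyOfFiniteType H.hom]
    (hH : (LocallyOfFinitePresentation H.hom ∧ QuasiCompact H.hom ∧ QuasiSeparated H.hom) ∨ IsLocallyNoetherian S)
    (u : G ⟶ H) [IsMonHom u] [Mono u] : IsImmersion u.left := by
  have h1 : IsSeparated G.hom := isSeparated_of_connected G hconn
  have h2 : QuasiCompact u.left := quasiCompact_left (hH.imp (fun h => h.2.2) id) u
  have h3 : LocallyOfFiniteType (u.left ≫ H.hom) := by rw [Over.w]; infer_instance
  have h4 : LocallyOfFiniteType u.left := locallyOfFiniteType_of_comp u.left H.hom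
  exact isImmersion_of hA hT S G H hu0 hT0 u

end Groth.Agent.Sga3.H832.Asm4144
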