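import Groth.Agent.Sga3.H824.AxiomA
import Groth.Agent.Sga3.H824.TorCore
import Groth.Agent.Sga3.H832.Asm4144
import Mathlib.Algebra.GCDMonoid.IntegrallyClosed
import Mathlib.RingTheory.Bezout

/-! # (A) and (T) of `Asm4144` -/

set_option autoImplicit false
universe u
open CategoryTheory MonoidalCategory CartesianMonoidalCategory MonObj GrpObj AlgebraicGeometry Limits

namespace Groth.Agent.Sga3.H832.AProp

theorem aProp : Asm4144.AProp.{u} := by
  intro R K _ _ _ _ _ _ _ G H T _ _ _ r hr u _ _ _ _ φ hφ hψ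
  have hic : IsIntegrallyClosed R := HensVal.isIntegrallyClosed R
  have hT : Red.IsTorus T := Sga3B.TorusBc.isTorus_of_iso hr.some.symm (Sga3B.MaxTorusCrit.isTorus_DS _ r)
  exact H824.AxiomA.hA hT u φ hφ hψ

theorem tProp : Asm4144.TProp.{u} := by
  intro R K _ _ _ _ _ _ _ H T _ _ r hr v _ _ t h ht hc
  exact H824.TorCore.exists_lift hr v t h ht hc

end Groth.Agent.Sga3.H832.AProp
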