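import Groth.Agent.Sga3B.DSPts
import Mathlib.RingTheory.IntegralClosure.IntegrallyClosed

/-!
# Extending generic points of split tori

`R` an integrally closed domain with fraction field `K`, `T` a split torus (or any diagonalizable group) over `R`:
if a positive power of `t ∈ T(K)` is in `T(R)` then `t ∈ T(R)`.
-/

set_option autoImplicit false
universe u
open CategoryTheory MonoidalCategory CartesianMonoidalCategory MonObj GrpObj AlgebraicGeometry Limits

namespace Groth.Agent.Sga3.H832.TorExt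

open Groth.Agent.Sga3B.DSPts

/-- the generic point of the base as an object over the base -/
noncomputable abbrev gen (R K : Type u) [CommRing R] [Field K] [Algebra R K] :
    Over (Spec (CommRingCat.of R)) :=
  Over.mk (Spec.map (CommRingCat.ofHom (algebraMap R K)))

variable {R K : Type u} [CommRing R] [Field K] [Algebra R K]

lemma appTop_injective (hinj : Function.Injective (algebraMap R K)) :
    Function.Injective (Spec.map (CommRingCat.ofHom (algebraMap R K))).appTop.hom := by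
  intro a b h
  have h1 := Scheme.ΓSpecIso_naturality (CommRingCat.ofHom (algebraMap R K))
  have h2 : ∀ a, algebraMap R K ((Scheme.ΓSpecIso (CommRingCat.of R)).hom.hom a) =
      (Scheme.ΓSpecIso (CommRingCat.of K)).hom.hom
        ((Spec.map (CommRingCat.ofHom (algebraMap R K))).appTop.hom a) := fun a =>
    (congrArg (fun ψ => ψ.hom a) h1).symm
  have h3 : (Scheme.ΓSpecIso (CommRingCat.of R)).hom.hom a = (Scheme.ΓSpecIso (CommRingCat.of R)).hom.hom b := by
    apply hinj
    rw [h2, h2, h]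
  exact (Scheme.ΓSpecIso (CommRingCat.of R)).commRingCatIsoToRingEquiv.injective h3

lemma exists_of_pow [IsDomain R] [IsIntegrallyClosed R] [IsFractionRing R K] (N : ℕ) (hN : 0 < N)
    (a : Γ(Spec (CommRingCat.of K), ⊤)) (b : Γ(Spec (CommRingCat.of R), ⊤))
    (h : a ^ N = (Spec.map (CommRingCat.ofHom (algebraMap R K))).appTop.hom b) :
    ∃ c, (Spec.map (CommRingCat.ofHom (algebraMap R K))).appTop.hom c = a := by
  have h1 := Scheme.ΓSpecIso_naturality (CommRingCat.ofHom (algebraMap R K))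
  have h2 : ∀ a, algebraMap R K ((Scheme.ΓSpecIso (CommRingCat.of R)).hom.hom a) =
      (Scheme.ΓSpecIso (CommRingCat.of K)).hom.hom
        ((Spec.map (CommRingCat.ofHom (algebraMap R K))).appTop.hom a) := fun a =>
    (congrArg (fun ψ => ψ.hom a) h1).symm
  let a' : K := (Scheme.ΓSpecIso (CommRingCat.of K)).hom.hom a
  have h3 : a' ^ N = algebraMap R K ((Scheme.ΓSpecIso (CommRingCat.of R)).hom.hom b) := by
    rw [h2, ← h, map_pow]
  have h4 : IsIntegral R a' := by
    have h5 : IsIntegral R (a' ^ N) := by rw [h3]; exact isIntegral_algebraMap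
    exact h5.of_pow hN
  obtain ⟨c, hc⟩ := IsIntegrallyClosed.isIntegral_iff.mp h4
  refine ⟨(Scheme.ΓSpecIso (CommRingCat.of R)).inv.hom c, ?_⟩
  apply (Scheme.ΓSpecIso (CommRingCat.of K)).commRingCatIsoToRingEquiv.injective
  change (Scheme.ΓSpecIso (CommRingCat.of K)).hom.hom _ = (Scheme.ΓSpecIso (CommRingCat.of K)).hom.hom _
  rw [← h2]
  have h6 : (Scheme.ΓSpecIso (CommRingCat.of R)).hom.hom ((Scheme.ΓSpecIso (CommRingCat.of R)).inv.hom c) = c :=
    congrArg (fun φ => φ.hom c) (Scheme.ΓSpecIso (CommRingCat.of R)).inv_hom_id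
  rw [h6]
  exact hc

lemma dsChar_pow {S : Scheme.{u}} {T : Over S} {M : Type} [AddCommGroup M] (x : T ⟶ Red.DS S M) (n : ℕ)
    (m : Multiplicative M) : dsChar (x ^ n) m = (dsChar x m) ^ n := by
  induction n with
  | zero =>
    rw [pow_zero, pow_zero]
    have h1 : dsChar (1 * 1 : T ⟶ Red.DS S M) m = dsChar (1 : T ⟶ Red.DS S M) m * dsChar (1 : T ⟶ Red.DS S M) m := by
      rw [dsChar_mul]; rfl
    have h0 : (1 : T ⟶ Red.DS S M) * 1 = 1 := _root_.mul_one (1 : T ⟶ Red.DS S M)
    rw [h0] at h1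
    have h2 : IsUnit (dsChar (1 : T ⟶ Red.DS S M) m) :=
      (Group.isUnit m).map (dsChar (1 : T ⟶ Red.DS S M))
    exact (h2.mul_eq_left.mp h1.symm)
  | succ n ih => rw [pow_succ, pow_succ, dsChar_mul, MonoidHom.mul_apply, ih]

theorem exists_ext_ds [IsDomain R] [IsIntegrallyClosed R] [IsFractionRing R K] {M : Type} [AddCommGroup M]
    (N : ℕ) (hN : 0 < N) (t : gen R K ⟶ Red.DS (Spec (CommRingCat.of R)) M)
    (t' : 𝟙_ (Over (Spec (CommRingCat.of R))) ⟶ Red.DS (Spec (CommRingCat.of R)) M)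
    (h : t ^ N = toUnit _ ≫ t') :
    ∃ t'' : 𝟙_ (Over (Spec (CommRingCat.of R))) ⟶ Red.DS (Spec (CommRingCat.of R)) M,
      toUnit _ ≫ t'' = t := by
  let φ := (Spec.map (CommRingCat.ofHom (algebraMap R K))).appTop.hom
  have hφ : (toUnit (gen R K)).left.appTop.hom = φ := by
    have : (toUnit (gen R K)).left = Spec.map (CommRingCat.ofHom (algebraMap R K)) := Over.toUnit_left
    rw [this]
  have hinj : Function.Injective φ := appTop_injective (IsFractionRing.injective R K)
  have h1 : ∀ m, (dsChar t m) ^ N = φ (dsChar t' m) := by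
    intro m
    rw [← dsChar_pow, h, dsChar_comp]
    change (toUnit (gen R K)).left.appTop.hom _ = _
    rw [hφ]
  have h2 : ∀ m, ∃ c, φ c = dsChar t m := fun m => exists_of_pow N hN _ _ (h1 m)
  choose c hc using h2
  let χ : Multiplicative M →* Γ((𝟙_ (Over (Spec (CommRingCat.of R)))).left, ⊤) :=
    { toFun := c
      map_one' := hinj (by rw [hc, map_one, map_one])
      map_mul' := fun a b => hinj (by rw [map_mul, hc, hc, hc, map_mul]) }
  refine ⟨dsEquiv _ M χ, ?_⟩
  rw [dsEquiv_naturality]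
  conv_rhs => rw [← dsEquiv_dsChar t]
  congr 1
  ext m
  change (toUnit (gen R K)).left.appTop.hom (c m) = _
  rw [hφ]
  exact hc m

lemma pow_comp {C : Type*} [Category C] [CartesianMonoidalCategory C] {X G H : C} [GrpObj G] [GrpObj H]
    (f : G ⟶ H) [IsMonHom f] (x : X ⟶ G) (n : ℕ) : (x ^ n) ≫ f = (x ≫ f) ^ n := by
  induction n with
  | zero => rw [pow_zero, pow_zero, MonObj.one_comp]
  | succ n ih => rw [pow_succ, pow_succ, MonObj.mul_comp, ih]

theorem exists_ext [IsDomain R] [IsIntegrallyClosed R] [IsFractionRing R K] {M : Type} [AddCommGroup M]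
    {T : Over (Spec (CommRingCat.of R))} [GrpObj T] (hT : Red.IsSplitTorusWith M T)
    (N : ℕ) (hN : 0 < N) (t : gen R K ⟶ T) (t' : 𝟙_ (Over (Spec (CommRingCat.of R))) ⟶ T)
    (h : t ^ N = toUnit _ ≫ t') :
    ∃ t'' : 𝟙_ (Over (Spec (CommRingCat.of R))) ⟶ T, toUnit _ ≫ t'' = t := by
  obtain ⟨e⟩ := hT
  let a : T ⟶ Red.DS (Spec (CommRingCat.of R)) M := e.hom.hom.hom
  let b : Red.DS (Spec (CommRingCat.of R)) M ⟶ T := e.inv.hom.hom
  have hab : a ≫ b = 𝟙 _ := congrArg (fun f : Grp.mk T ⟶ Grp.mk T => f.hom.hom) e.hom_inv_id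
  have ha : IsMonHom a := e.hom.hom.isMonHom_hom
  obtain ⟨s, hs⟩ := exists_ext_ds N hN (t ≫ a) (t' ≫ a) (by
    rw [← Category.assoc, ← h, pow_comp a])
  refine ⟨s ≫ b, ?_⟩
  rw [← Category.assoc, hs, Category.assoc, hab, Category.comp_id]

end Groth.Agent.Sga3.H832.TorExt
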