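import Groth.Agent.Sga3.H832.Asm4144
import Groth.Agent.Sga3.H832.ConjLift

/-!
# Closed immersions out of groups of unipotent rank zero

Granting (A) and (T) of `Asm4144`:

* `isImmersion_torus`: monomorphisms out of tori are immersions;
* `closed_lift_core`: over a valuation ring `R` with algebraically closed fraction field `K`, `G` smooth separated with a
  torus `T` self-centralizing on both fibres, such that the points of `G(K)` normalizing `T_K` centralize it,
  `u : G ⟶ H` a monomorphism, `H` separated of finite type: `G(K) ∩ H(R) = G(R)`.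
-/

set_option autoImplicit false
universe u
open CategoryTheory MonoidalCategory CartesianMonoidalCategory MonObj GrpObj AlgebraicGeometry Limits

namespace Groth.Agent.Sga3.H832.ClosedLift

open TorExt PowRange ClosedCore HensPt SelfCent BcPt Asm4144 ConjLift
open Groth.Agent.Sga3B Groth.Agent.Sga3B.MaxTorBc636

/-- The generic fibre of a flat scheme over a domain is dense. -/
theorem dense_gen {R K : Type u} [CommRing R] [IsDomain R] [Field K] [Algebra R K] [IsFractionRing R K]
    (T : Over (Spec (CommRingCat.of R))) [Flat T.hom] :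
    Dense (Set.range (fst T (gen R K)).left) := by
  intro x
  let g₀ : PrimeSpectrum R := ⟨⊥, Ideal.isPrime_bot⟩
  have hg₀ : g₀ ⤳ T.hom x :=
    (PrimeSpectrum.le_iff_specializes g₀ (T.hom x)).mp (bot_le (a := (T.hom x).asIdeal))
  obtain ⟨x', hx', hx''⟩ := Flat.generalizingMap T.hom hg₀
  refine hx'.mem_closed isClosed_closure (subset_closure ?_)
  change x' ∈ Set.range (pullback.fst T.hom (gen R K).hom)
  rw [Scheme.Pullback.range_fst]
  refine ⟨(⟨⊥, Ideal.isPrime_bot⟩ : PrimeSpectrum K), ?_⟩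
  rw [hx'']
  refine PrimeSpectrum.ext ?_
  change Ideal.comap (algebraMap R K) ⊥ = ⊥
  rw [← RingHom.ker_eq_comap_bot]
  exact (RingHom.injective_iff_ker_eq_bot _).mp (IsFractionRing.injective R K)

/-- A torus has unipotent rank zero. -/
theorem unipotentRankZero_of_isTorus {S : Scheme.{u}} {T : Over S} [GrpObj T] (hT : Red.IsTorus T) :
    SGA3x.UnipotentRankZero T := by
  intro s T' _ i hi
  have h1 : IsMonHom i := hi.1
  have h2 : Mono i := hi.2.1
  have hT' : Red.IsTorus (Red.geomFibre s T) := TorusBc.isTorus_bc (Red.geomPt s) hT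
  have hc := MaxTorNear900.mul_comm_of_isTorus hT'
  have h3 : Smooth (Red.geomFibre s T).hom := TorusAlgClosed.smooth_of_isTorus hT'
  have h4 : SelfC (𝟙 (Red.geomFibre s T)) := fun X g _ => ⟨g, Category.comp_id g⟩
  have h5 : SelfC i := selfC_of_selfC (isMaximalTorus_of_selfC hT' h4) h4 hi
  exact ⟨h1, h2, fun X g => ⟨fun _ X' x h => hc X' _ _, fun h => h5 X g h⟩⟩

/-- A torus is a maximal torus of itself. -/
theorem hasMaxTorus_of_isTorus {S : Scheme.{u}} {T : Over S} [GrpObj T] (hT : Red.IsTorus T) :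
    SGA3x.HasMaxTorusFpqcLocally T := by
  refine ⟨S, 𝟙 S, inferInstance, inferInstance, fun V hV => ⟨V, hV.isCompact, by simp⟩, Red.bc (𝟙 S) T, inferInstance,
    𝟙 _, ?_⟩
  exact isMaximalTorus_of_selfC (TorusBc.isTorus_bc (𝟙 S) hT) (fun X g _ => ⟨g, Category.comp_id g⟩)

/-- Monomorphisms out of tori are immersions. -/
theorem isImmersion_torus (hA : AProp.{u}) (hT : TProp.{u}) {S : Scheme.{u}} {T H : Over S} [GrpObj T] [GrpObj H]
    (hT0 : Red.IsTorus T) (v : T ⟶ H) [IsMonHom v] [Mono v] [QuasiCompact v.left] [LocallyOfFiniteType v.left] :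
    IsImmersion v.left := by
  have h1 : Smooth T.hom := TorusAlgClosed.smooth_of_isTorus hT0
  have h2 : IsAffineHom T.hom := TorusAlgClosed.isAffineHom_of_isTorus hT0
  exact isImmersion_of hA hT S T H (unipotentRankZero_of_isTorus hT0) (hasMaxTorus_of_isTorus hT0) v

/-- **Closedness over a valuation ring with algebraically closed fraction field.** -/
theorem closed_lift_core (hA : AProp.{u}) (hT : TProp.{u}) (R K : Type u) [CommRing R] [IsDomain R]
    [ValuationRing R] [Field K] [IsAlgClosed K] [Algebra R K] [IsFractionRing R K]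
    {G H T : Over (Spec (CommRingCat.of R))} [GrpObj G] [GrpObj H] [GrpObj T]
    [Smooth G.hom] [QuasiCompact G.hom] [IsSeparated G.hom] [IsSeparated H.hom] [LocallyOfFiniteType H.hom]
    [QuasiCompact H.hom] (u : G ⟶ H) [IsMonHom u] [Mono u] (i : T ⟶ G) [IsMonHom i] [Mono i]
    (hT0 : Red.IsTorus T)
    (hs : SelfC ((Over.pullback (Spec.map (CommRingCat.ofHom (algebraMap R K)))).map i))
    (hsk : SelfC ((Over.pullback (Spec.map (CommRingCat.ofHom (IsLocalRing.residue R)))).map i))
    (hN : ∀ n : gen R K ⟶ G, (∀ (X : Over (Spec (CommRingCat.of R))) (x : X ⟶ gen R K) (t : X ⟶ T),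
        (∃ t' : X ⟶ T, (x ≫ n) * (t ≫ i) * (x ≫ n)⁻¹ = t' ≫ i) ∧
        (∃ t' : X ⟶ T, (x ≫ n)⁻¹ * (t ≫ i) * (x ≫ n) = t' ≫ i)) →
      ∀ (X : Over (Spec (CommRingCat.of R))) (x : X ⟶ gen R K) (t : X ⟶ T),
        (x ≫ n) * (t ≫ i) * (x ≫ n)⁻¹ = t ≫ i)
    (h : 𝟙_ (Over (Spec (CommRingCat.of R))) ⟶ H) (gK : gen R K ⟶ G) (hgK : gK ≫ u = toUnit _ ≫ h) :
    ∃ g : 𝟙_ (Over (Spec (CommRingCat.of R))) ⟶ G, g ≫ u = h := by
  have h1 : HenselianLocalRing R := HensVal.henselianLocalRing R K
  have h2 : IsAlgClosed (IsLocalRing.ResidueField R) := HensVal.isAlgClosed_residueField R K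
  obtain ⟨r, hr⟩ := ValExt.exists_isSplitTorusWith hT0
  have h3 : Mono (i ≫ u) := mono_comp i u
  have h4 : Smooth T.hom := TorusAlgClosed.smooth_of_isTorus hT0
  have h5 : IsAffineHom T.hom := TorusAlgClosed.isAffineHom_of_isTorus hT0
  have q1 : QuasiCompact u.left := quasiCompact_left (Or.inl inferInstance) u
  have q2 : LocallyOfFiniteType (u.left ≫ H.hom) := by rw [Over.w]; infer_instance
  have q3 : LocallyOfFiniteType u.left := locallyOfFiniteType_of_comp u.left H.hom
  have q4 : QuasiCompact (i ≫ u).left := quasiCompact_left (Or.inl inferInstance) (i ≫ u)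
  have q5 : LocallyOfFiniteType ((i ≫ u).left ≫ H.hom) := by rw [Over.w]; infer_instance
  have q6 : LocallyOfFiniteType (i ≫ u).left := locallyOfFiniteType_of_comp (i ≫ u).left H.hom
  refine mem_of_generic u i hr (dense_gen T) (isImmersion_torus hA hT hT0 (i ≫ u))
    (fun φ hφ hψ => hA R K G H T r hr u φ hψ) (fun t h ht hh => hT R K H T r hr (i ≫ u) t h ht hh)
    (fun j hj hj' => exists_conjBy_of_selfC i hT0 hsk j) (fun n hn => ?_) h gK hgK
  obtain ⟨t, ht⟩ := exists_factor_of_selfC _ i hs n (hN n hn)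
  exact ⟨1, t, by rw [MonObj.comp_one, _root_.one_mul, ht]⟩

end Groth.Agent.Sga3.H832.ClosedLift
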