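import Groth.Agent.Sga3B.RG.PbBorel
import Groth.Agent.Sga3B.RG.BrHc
import Groth.Agent.Books.AlgPtsIrred
import Groth.Agent.Sga3.H784.Commute
import Groth.Prelude.Def_Red2

/-!
# Normalizers of tori in connected solvable groups

`K` algebraically closed, `G` smooth affine connected solvable, `i : T ⟶ G` a torus: rational points of `G` normalizing
`T` centralize `T`.
-/

set_option autoImplicit false
universe u
open CategoryTheory MonoidalCategory CartesianMonoidalCategory MonObj GrpObj AlgebraicGeometry Limits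
open Groth.Agent.Books.AffBridge Groth.Agent.Books.AffBridge2

namespace Groth.Agent.Sga3.H832.NLSolv

open Sga3B.RG Sga3B.RG.BrPts Sga3B.RG.BrTorus
open Groth.Agent.Books.AlgPts Groth.Agent.Books.AlgPtsIrred

variable {K : Type u} [Field K] [IsAlgClosed K]

/-- Points form. -/
theorem commute_of_solvable {A : Type u} [CommRing A] [HopfAlgebra K A] [Algebra.FiniteType K A] [IsDomain A]
    (hs : Group.IsSolvable (Pt K A)) {T : Subgroup (Pt K A)} (hT : IsTorusSub T) {n t : Pt K A} (ht : t ∈ T)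
    (hn : n * t * n⁻¹ ∈ T) : n * t * n⁻¹ = t := by
  have htrig := PbBorel.isTrig_of_isSolvable hs
  have h1 : IsUnip (n * t * n⁻¹ * t⁻¹) :=
    (Trig.isUnip_iff htrig _).2 fun χ => Trig.commutator_mem_Gu n t χ
  exact mul_inv_eq_one.1 (TrigTorus.eq_one_of_isTorusSub hT (T.mul_mem hn (T.inv_mem ht)) h1)

/-- **Points normalizing a torus in a connected solvable group centralize it.** -/
theorem conj_eq {G T : Over (Spec (CommRingCat.of K))} [GrpObj G] [GrpObj T] [IsAffine G.left] [Smooth G.hom]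
    [ConnectedSpace G.left] (hsolv : Red.IsSolvableGrp G) (i : T ⟶ G) [IsMonHom i] [Mono i] (hT : Red.IsTorus T)
    (n : 𝟙_ (Over (Spec (CommRingCat.of K))) ⟶ G)
    (hn : ∀ t : 𝟙_ (Over (Spec (CommRingCat.of K))) ⟶ T, ∃ t' : 𝟙_ (Over (Spec (CommRingCat.of K))) ⟶ T,
      n * (t ≫ i) * n⁻¹ = t' ≫ i) :
    (toUnit T ≫ n) * i * (toUnit T ≫ n)⁻¹ = i := by
  obtain ⟨A, _, _, e, he, hft⟩ := BrHc.exists_hopf_ft G
  have hiso : IsIso e.symm.hom.left := inferInstanceAs (IsIso ((Over.forget _).map e.inv))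
  have h1 : Smooth (SpecOver K A).hom := by
    rw [hom_eq_of_iso e.symm]
    infer_instance
  have h2 : ConnectedSpace (SpecOver K A).left :=
    (homeo e).surjective.connectedSpace (homeo e).continuous
  have hdom : IsDomain A := (isDomain_iff A).1 ⟨h1, h2⟩
  -- the points are solvable
  let ε : (𝟙_ (Over (Spec (CommRingCat.of K))) ⟶ G) ≃* Pt K A :=
    { toFun := fun x => (ptEquiv K A).symm (x ≫ e.hom)
      invFun := fun y => ptEquiv K A y ≫ e.inv
      left_inv := fun x => by simp
      right_inv := fun y => by simp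
      map_mul' := fun x y => by rw [MonObj.mul_comp, map_mul] }
  have hs : Group.IsSolvable (Pt K A) := by
    obtain ⟨m, hm⟩ := hsolv
    have h3 : Group.IsSolvable (𝟙_ (Over (Spec (CommRingCat.of K))) ⟶ G) :=
      (Group.isSolvable_def _).mpr ⟨m, hm _⟩
    exact Group.isSolvable_of_surjective (f := ε.toMonoidHom) ε.surjective
  have hTs := isTorusSub_ptsSub (i ≫ e.hom) hT
  -- compare the two morphisms on rational points
  refine H784.Commute.hom_ext_torsion hT _ _ fun x _ => ?_
  obtain ⟨t', ht'⟩ := hn x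
  have h4 : ∀ y : 𝟙_ (Over (Spec (CommRingCat.of K))) ⟶ T, ε (y ≫ i) ∈ ptsSub (i ≫ e.hom) := by
    intro y
    refine ⟨y, ?_⟩
    change _ = ptEquiv K A ((ptEquiv K A).symm ((y ≫ i) ≫ e.hom))
    rw [MulEquiv.apply_symm_apply, Category.assoc]
  have h5 : ε n * ε (x ≫ i) * (ε n)⁻¹ = ε (t' ≫ i) := by
    rw [← map_inv, ← map_mul, ← map_mul, ht']
  have h6 := commute_of_solvable hs hTs (h4 x) (by rw [h5]; exact h4 t')
  rw [h5] at h6
  have h7 := ε.injective h6
  rw [MonObj.comp_mul, MonObj.comp_mul, GrpObj.comp_inv, ← Category.assoc, comp_toUnit]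
  have h8 : toUnit (𝟙_ (Over (Spec (CommRingCat.of K)))) ≫ n = n := by
    rw [show toUnit (𝟙_ (Over (Spec (CommRingCat.of K)))) = 𝟙 _ from toUnit_unique _ _, Category.id_comp]
  rw [h8, ht', h7]

end Groth.Agent.Sga3.H832.NLSolv
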