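import Groth.Agent.Sga3.H832.ClosedLift
import Groth.Agent.Sga3.H832.NLSolv
import Groth.Agent.Sga3B.ParBc
import Groth.Agent.Sga3B.TorTransp2

/-!
# Closed immersions out of groups of unipotent rank zero (assembly)

Granting (A) and (T) of `Asm4144`:

* `isClosedImmersion_of`: `G` smooth separated quasi-compact over `S`, unipotent rank zero, with a maximal torus
  fpqc-locally, such that rational points of the geometric fibres normalizing a torus centralize it;
  `H` separated of finite type: monomorphisms `G ⟶ H` are closed immersions;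
* `s4145_of`: the statement S4145 for groups which have a maximal torus fpqc-locally.
-/

set_option autoImplicit false
universe u
open CategoryTheory MonoidalCategory CartesianMonoidalCategory MonObj GrpObj AlgebraicGeometry Limits

namespace Groth.Agent.Sga3.H832.Asm4145

open TorExt PowRange ClosedCore HensPt SelfCent BcPt Asm4144 ConjLift ClosedLift
open Groth.Agent.Sga3B Groth.Agent.Sga3B.MaxTorBc636 Groth.Agent.Sga3B.DSPts
open Groth.Agent.Sga3B.TorTransp (Transp)

/-- Rational points normalizing `i` (on rational points) centralize it. -/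
def NormCent {K : Type u} [Field K] {G T : Over (Spec (CommRingCat.of K))} [GrpObj G] (i : T ⟶ G) : Prop :=
  ∀ n : 𝟙_ (Over (Spec (CommRingCat.of K))) ⟶ G,
    (∀ t : 𝟙_ (Over (Spec (CommRingCat.of K))) ⟶ T, ∃ t' : 𝟙_ (Over (Spec (CommRingCat.of K))) ⟶ T,
      n * (t ≫ i) * n⁻¹ = t' ≫ i) → (toUnit T ≫ n) * i * (toUnit T ≫ n)⁻¹ = i

/-- Transfer of `NormCent` to points over the base. -/
theorem conj_eq_of_normCent {S : Scheme.{u}} {K : Type u} [Field K] (e₀ : Spec (CommRingCat.of K) ⟶ S)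
    {G T : Over S} [GrpObj G] [GrpObj T] (i : T ⟶ G) (h : NormCent ((Over.pullback e₀).map i))
    (n : Over.mk e₀ ⟶ G)
    (hn : ∀ (X : Over S) (x : X ⟶ Over.mk e₀) (t : X ⟶ T), ∃ t' : X ⟶ T,
      (x ≫ n) * (t ≫ i) * (x ≫ n)⁻¹ = t' ≫ i) : Transp i i n := by
  let n' : 𝟙_ (Over (Spec (CommRingCat.of K))) ⟶ Red.bc e₀ G := bcEquiv e₀ (𝟙_ _) G (unitMap' e₀ ≫ n)
  have h1 := h n' (fun t => by
    obtain ⟨t', ht'⟩ := hn _ (unitMap' e₀) ((bcEquiv e₀ (𝟙_ _) T).symm t)
    refine ⟨bcEquiv e₀ (𝟙_ _) T t', ?_⟩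
    have e2 : bcEquiv e₀ (𝟙_ _) G ((bcEquiv e₀ (𝟙_ _) T).symm t ≫ i) = t ≫ (Over.pullback e₀).map i := by
      rw [← bcEquiv_comp, MulEquiv.apply_symm_apply]
    rw [bcEquiv_comp, ← ht', map_mul, map_mul, map_inv, e2])
  have h2 : Transp ((Over.pullback e₀).map i) ((Over.pullback e₀).map i) n' := by
    intro Y y q
    have h3 := congrArg (fun f => q ≫ f) h1
    simp only [MonObj.comp_mul, GrpObj.comp_inv, ← Category.assoc] at h3
    rwa [comp_toUnit, ← toUnit_unique y (toUnit Y)] at h3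
  rw [TorTransp.transp_bc, MulEquiv.symm_apply_apply] at h2
  have h4 := h2.comp (unitMap e₀)
  rwa [← Category.assoc, unitMap_comp, Category.id_comp] at h4

/-- **Closed immersions.** -/
theorem isClosedImmersion_of (hA : AProp.{u}) (hT : TProp.{u}) (S : Scheme.{u}) (G H : Over S) [GrpObj G]
    [GrpObj H] [Smooth G.hom] [QuasiCompact G.hom] [IsSeparated G.hom] (hu0 : SGA3x.UnipotentRankZero G)
    (hT0 : SGA3x.HasMaxTorusFpqcLocally G) [IsSeparated H.hom] [LocallyOfFiniteType H.hom] [QuasiCompact H.hom]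
    (hNC : ∀ (K : Type u) [Field K] [IsAlgClosed K] (x : Spec (CommRingCat.of K) ⟶ S)
      (G' : Over (Spec (CommRingCat.of K))) [GrpObj G'], Nonempty (Grp.mk G' ≅ Grp.mk (Red.bc x G)) →
      ∀ (T' : Over (Spec (CommRingCat.of K))) [GrpObj T'] (i : T' ⟶ G') [IsMonHom i] [Mono i],
        Red.IsTorus T' → NormCent i)
    (u : G ⟶ H) [IsMonHom u] [Mono u] : IsClosedImmersion u.left := by
  have q1 : QuasiCompact u.left := quasiCompact_left (Or.inl inferInstance) u
  have q2 : LocallyOfFiniteType (u.left ≫ H.hom) := by rw [Over.w]; infer_instance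
  have q3 : LocallyOfFiniteType u.left := locallyOfFiniteType_of_comp u.left H.hom
  refine H824.ImmVal.isClosedImmersion_of_valuative u.left ?_
  intro R _ _ _ K _ _ _ y a ha
  obtain ⟨S', q, hq1, hq2, -, T', _, i', hi'⟩ := hT0
  let s : Spec (CommRingCat.of R) ⟶ S := y ≫ H.hom
  obtain ⟨R₁, K₁, _, _, _, _, _, _, _, φ, y₁, hφ, hφl, hy₁⟩ := ValExt.exists_valuationRing q s
    (hq2.surj _)
  -- the point `h` over `R₁`
  let h₀ : Spec (CommRingCat.of R₁) ⟶ H.left := Spec.map (CommRingCat.ofHom φ) ≫ y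
  have hh₀ : h₀ ≫ H.hom = (𝟙_ (Over (Spec (CommRingCat.of R₁)))).hom ≫ y₁ ≫ q := by
    change (Spec.map (CommRingCat.ofHom φ) ≫ y) ≫ H.hom = 𝟙 _ ≫ y₁ ≫ q
    rw [Category.id_comp, hy₁, Category.assoc]
  let h : 𝟙_ (Over (Spec (CommRingCat.of R₁))) ⟶ bc2 y₁ q H := pt2 y₁ q H h₀ hh₀
  have hh : h.left ≫ pr y₁ q H = h₀ := pt2_pr y₁ q H _ _
  -- the generic point
  let φK : K →+* K₁ := IsFractionRing.map (A := R) (B := R₁) (K := K) (L := K₁) (j := φ) hφ
  have hφK : φK.comp (algebraMap R K) = (algebraMap R₁ K₁).comp φ := by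
    ext x
    exact IsLocalization.map_eq (nonZeroDivisors_le_comap_nonZeroDivisors_of_injective φ hφ) x
  have eK : Spec.map (CommRingCat.ofHom (algebraMap R₁ K₁)) ≫ Spec.map (CommRingCat.ofHom φ) =
      Spec.map (CommRingCat.ofHom φK) ≫ Spec.map (CommRingCat.ofHom (algebraMap R K)) := by
    rw [← Spec.map_comp, ← Spec.map_comp, ← CommRingCat.ofHom_comp, ← CommRingCat.ofHom_comp, hφK]
  let aK : (gen R₁ K₁).left ⟶ G.left := Spec.map (CommRingCat.ofHom φK) ≫ a
  have haK : aK ≫ u.left = (toUnit (gen R₁ K₁)).left ≫ h₀ := by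
    rw [Over.toUnit_left]
    change (Spec.map (CommRingCat.ofHom φK) ≫ a) ≫ u.left =
      Spec.map (CommRingCat.ofHom (algebraMap R₁ K₁)) ≫ Spec.map (CommRingCat.ofHom φ) ≫ y
    rw [Category.assoc, ha, ← Category.assoc, ← eK, Category.assoc]
  have haK' : aK ≫ G.hom = (gen R₁ K₁).hom ≫ y₁ ≫ q := by
    rw [← Over.w u, ← Category.assoc, haK, Category.assoc, hh₀, ← Category.assoc, Over.w]
  -- the data over `R₁`
  have i1 : Smooth (bc2 y₁ q G).hom := prop_bc2 y₁ q ‹Smooth G.hom›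
  have i2 : IsSeparated (bc2 y₁ q G).hom := prop_bc2 y₁ q ‹IsSeparated G.hom›
  have i3 : QuasiCompact (bc2 y₁ q G).hom := prop_bc2 y₁ q ‹QuasiCompact G.hom›
  have i4 : IsSeparated (bc2 y₁ q H).hom := prop_bc2 y₁ q ‹IsSeparated H.hom›
  have i5 : LocallyOfFiniteType (bc2 y₁ q H).hom := prop_bc2 y₁ q ‹LocallyOfFiniteType H.hom›
  have i6 : QuasiCompact (bc2 y₁ q H).hom := prop_bc2 y₁ q ‹QuasiCompact H.hom›
  have j1 : IsMonHom i' := hi'.1
  have j2 : Mono i' := hi'.2.1
  let i₁ : Red.bc y₁ T' ⟶ bc2 y₁ q G := (Over.pullback y₁).map i'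
  have hs : ∀ (L : Type u) [Field L] [IsAlgClosed L] (e : Spec (CommRingCat.of L) ⟶ Spec (CommRingCat.of R₁)),
      SelfC ((Over.pullback e).map i₁) := by
    intro L _ _ e
    have h1 := selfC_geom q hu0 hi' (e ≫ y₁)
    exact selfC_of_arrow (BcIso.bcCompIso e y₁ T') (BcIso.bcCompIso e y₁ (Red.bc q G))
      (BcNat.comp_nat e y₁ i').symm h1
  have hk : IsAlgClosed (IsLocalRing.ResidueField R₁) := HensVal.isAlgClosed_residueField R₁ K₁
  let e₀ : Spec (CommRingCat.of K₁) ⟶ Spec (CommRingCat.of R₁) := Spec.map (CommRingCat.ofHom (algebraMap R₁ K₁))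
  have hTb : Red.IsTorus (Red.bc y₁ T') := TorusBc.isTorus_bc y₁ hi'.2.2.1
  have hnc : NormCent ((Over.pullback e₀).map i₁) :=
    hNC K₁ ((e₀ ≫ y₁) ≫ q) _ ⟨(BcIso.bcCompIso e₀ y₁ (Red.bc q G)).symm ≪≫
      (BcIso.bcCompIso (e₀ ≫ y₁) q G).symm⟩ _ _ (TorusBc.isTorus_bc e₀ hTb)
  obtain ⟨g, hg⟩ := closed_lift_core hA hT R₁ K₁ (bc2Map y₁ q u) i₁ hTb (hs K₁ e₀)
    (hs (IsLocalRing.ResidueField R₁) _)
    (fun n hn => conj_eq_of_normCent e₀ i₁ hnc n fun X x t => (hn X x t).1) h
    (pt2 y₁ q G aK haK') (hom_ext2 y₁ q (by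
      rw [Over.comp_left, Category.assoc, map_pr, ← Category.assoc, pt2_pr, haK, Over.comp_left, Category.assoc,
        hh]))
  refine H824.ImmVal.exists_lift_of_extension u.left φ hφ y (g.left ≫ pr y₁ q G) ?_
  rw [Category.assoc, ← map_pr, ← Category.assoc, ← Over.comp_left, hg, hh]

/-- The fibre hypotheses at field-valued points. -/
theorem isAffineHom_bc {S : Scheme.{u}} (G : Over S) [GrpObj G]
    (haff : ∀ s : S, IsAffine (pullback G.hom (S.fromSpecResidueField s)))
    {K : Type u} [Field K] (x : Spec (CommRingCat.of K) ⟶ S) : IsAffineHom (Red.bc x G).hom := by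
  obtain ⟨s, α, rfl⟩ : ∃ (s : S) (α : S.residueField s ⟶ .of K), x = Spec.map α ≫ S.fromSpecResidueField s := by
    refine ⟨_, (Scheme.SpecToEquivOfField K S x).2, ?_⟩
    exact ((Scheme.SpecToEquivOfField K S).symm_apply_apply x).symm
  have h1 := haff s
  have h2 : IsAffineHom (Red.bc (S.fromSpecResidueField s) G).hom := by
    change IsAffineHom (pullback.snd G.hom (S.fromSpecResidueField s))
    infer_instance
  have h3 : IsAffineHom (Red.bc (Spec.map α) (Red.bc (S.fromSpecResidueField s) G)).hom := by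
    change IsAffineHom (pullback.snd (Red.bc (S.fromSpecResidueField s) G).hom (Spec.map α))
    infer_instance
  exact TorusAlgClosed.prop_of_grp_iso (P := @IsAffineHom) (BcIso.bcCompIso (Spec.map α) _ G) h3

theorem normCent_of_solvable {S : Scheme.{u}} (G : Over S) [GrpObj G] [Smooth G.hom]
    (haff : ∀ s : S, IsAffine (pullback G.hom (S.fromSpecResidueField s)))
    (hconn : ∀ s : S, _root_.IsConnected (G.hom.base ⁻¹' {s}))
    (hsolv : ∀ s : S, Red.IsSolvableGrp (Red.geomFibre s G))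
    (K : Type u) [Field K] [IsAlgClosed K] (x : Spec (CommRingCat.of K) ⟶ S)
    (G' : Over (Spec (CommRingCat.of K))) [GrpObj G'] (he : Nonempty (Grp.mk G' ≅ Grp.mk (Red.bc x G)))
    (T' : Over (Spec (CommRingCat.of K))) [GrpObj T'] (i : T' ⟶ G') [IsMonHom i] [Mono i]
    (hT' : Red.IsTorus T') : NormCent i := by
  obtain ⟨e⟩ := he
  have h1 : IsAffineHom G'.hom := TorusAlgClosed.prop_of_grp_iso (P := @IsAffineHom) e (isAffineHom_bc G haff x)
  have h2 : IsAffine G'.left := isAffine_of_isAffineHom G'.hom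
  have h3 : Smooth G'.hom := TorusAlgClosed.prop_of_grp_iso (P := @Smooth) e
    (inferInstanceAs (Smooth (pullback.snd G.hom x)))
  have hgrp : GrpObj (Over.mk G.hom) := inferInstanceAs (GrpObj G)
  have h4 : GeometricallyIrreducible G.hom :=
    Groth.Agent.Sga3C.GrpIrr.geometricallyIrreducible_of_connected_fibres G.hom hconn
  have h5 : GeometricallyIrreducible G'.hom := TorusAlgClosed.prop_of_grp_iso (P := @GeometricallyIrreducible) e
    (inferInstanceAs (GeometricallyIrreducible (pullback.snd G.hom x)))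
  have h6 : IrreducibleSpace (Spec (CommRingCat.of K)) :=
    inferInstanceAs (IrreducibleSpace (PrimeSpectrum K))
  have h7 : IrreducibleSpace G'.left := GeometricallyIrreducible.irreducibleSpace G'.hom G'.hom.isOpenMap
  have h8 : ConnectedSpace G'.left := inferInstance
  have h9 : Red.IsSolvableGrp G' := by
    obtain ⟨s, θ, rfl⟩ := exists_fac_geomPt x
    exact ParBc.isSolvableGrp_of_iso ((BcIso.bcCompIso θ (Red.geomPt s) G).symm ≪≫ e.symm)
      (ParBc.isSolvableGrp_bc θ (hsolv s))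
  exact fun n hn => NLSolv.conj_eq h9 i hT' n hn

/-- **S4145 for groups with a maximal torus fpqc-locally**, from (A) and (T). -/
theorem s4145_of (hA : AProp.{u}) (hT : TProp.{u}) (S : Scheme.{u}) (G H : Over S) [GrpObj G] [GrpObj H]
    [Smooth G.hom] [QuasiCompact G.hom] (hu0 : SGA3x.UnipotentRankZero G)
    (haff : ∀ s : S, IsAffine (pullback G.hom (S.fromSpecResidueField s)))
    (hconn : ∀ s : S, _root_.IsConnected (G.hom.base ⁻¹' {s}))
    (hsolv : ∀ s : S, Red.IsSolvableGrp (Red.geomFibre s G))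
    (hMT : SGA3x.HasMaxTorusFpqcLocally G)
    [LocallyOfFinitePresentation H.hom] [QuasiCompact H.hom] [QuasiSeparated H.hom]
    (u : G ⟶ H) [IsMonHom u] [Mono u] :
    IsImmersion u.left ∧ (IsSeparated H.hom → IsClosedImmersion u.left) := by
  refine ⟨s4144 hA hT S G H hu0 hMT hconn (Or.inl ⟨inferInstance, inferInstance, inferInstance⟩) u, fun hs => ?_⟩
  have h1 : IsSeparated G.hom := isSeparated_of_connected G hconn
  exact isClosedImmersion_of hA hT S G H hu0 hMT (normCent_of_solvable G haff hconn hsolv) u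

end Groth.Agent.Sga3.H832.Asm4145
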