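import Groth.Agent.Sga3B.Parab.FibIsoSch
import Groth.Agent.Sga3B.DSPts

/-!
# Points of iterated base changes

`pt2 y q G a ha : X ⟶ bc y (bc q G)`, for `X` over `S''`, `y : S'' ⟶ S'`, `q : S' ⟶ S`, is the point attached to a morphism
`a : X.left ⟶ G.left` with `a ≫ G.hom = X.hom ≫ y ≫ q`.
-/

set_option autoImplicit false
universe u
open CategoryTheory MonoidalCategory CartesianMonoidalCategory MonObj GrpObj AlgebraicGeometry Limits

namespace Groth.Agent.Sga3.H832.BcPt

open Groth.Agent.Sga3B Groth.Agent.Sga3B.Parab.FibIsoSch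

variable {S S' S'' : Scheme.{u}} (y : S'' ⟶ S') (q : S' ⟶ S)

/-- iterated base change of an object -/
noncomputable abbrev bc2 (G : Over S) : Over S'' := (Over.pullback y).obj ((Over.pullback q).obj G)

/-- iterated base change of a morphism -/
noncomputable abbrev bc2Map {G H : Over S} (u : G ⟶ H) : bc2 y q G ⟶ bc2 y q H :=
  (Over.pullback y).map ((Over.pullback q).map u)

/-- the projection from the iterated base change -/
noncomputable def pr (G : Over S) : (bc2 y q G).left ⟶ G.left :=
  pullback.fst _ y ≫ pullback.fst G.hom q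

lemma pr_hom (G : Over S) : pr y q G ≫ G.hom = (bc2 y q G).hom ≫ y ≫ q := by
  change (pullback.fst (pullback.snd G.hom q) y ≫ pullback.fst G.hom q) ≫ G.hom =
    pullback.snd (pullback.snd G.hom q) y ≫ y ≫ q
  rw [Category.assoc, pullback.condition, ← Category.assoc, pullback.condition, Category.assoc]

lemma map_pr {G H : Over S} (u : G ⟶ H) : (bc2Map y q u).left ≫ pr y q H = pr y q G ≫ u.left := by
  rw [pr, pr, ← Category.assoc, ← (isPullback_map_left y ((Over.pullback q).map u)).w, Category.assoc,
    ← (isPullback_map_left q u).w, Category.assoc]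

/-- the point of the iterated base change attached to a morphism -/
noncomputable def pt2 (G : Over S) {X : Over S''} (a : X.left ⟶ G.left) (ha : a ≫ G.hom = X.hom ≫ y ≫ q) :
    X ⟶ bc2 y q G :=
  Over.homMk (pullback.lift (pullback.lift a (X.hom ≫ y) (by rw [ha, Category.assoc])) X.hom
    (pullback.lift_snd _ _ _)) (pullback.lift_snd _ _ _)

lemma pt2_pr (G : Over S) {X : Over S''} (a : X.left ⟶ G.left) (ha : a ≫ G.hom = X.hom ≫ y ≫ q) :
    (pt2 y q G a ha).left ≫ pr y q G = a := by
  change pullback.lift _ _ _ ≫ pullback.fst _ _ ≫ pullback.fst _ _ = a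
  rw [← Category.assoc, pullback.lift_fst, pullback.lift_fst]

lemma hom_ext2 {G : Over S} {X : Over S''} {a b : X ⟶ bc2 y q G} (h : a.left ≫ pr y q G = b.left ≫ pr y q G) :
    a = b := by
  have h1 : a.left ≫ (bc2 y q G).hom = b.left ≫ (bc2 y q G).hom := (Over.w a).trans (Over.w b).symm
  ext1
  refine pullback.hom_ext (pullback.hom_ext ?_ ?_) h1
  · simpa [pr] using h
  · rw [Category.assoc, Category.assoc]
    have e : pullback.fst (pullback.snd G.hom q) y ≫ pullback.snd G.hom q = (bc2 y q G).hom ≫ y :=
      pullback.condition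
    change a.left ≫ pullback.fst (pullback.snd G.hom q) y ≫ pullback.snd G.hom q =
      b.left ≫ pullback.fst (pullback.snd G.hom q) y ≫ pullback.snd G.hom q
    rw [e, ← Category.assoc, h1, Category.assoc]

lemma prop_bc2Map {P : MorphismProperty Scheme.{u}} [P.IsStableUnderBaseChange] {G H : Over S} (u : G ⟶ H)
    (h : P u.left) : P (bc2Map y q u).left := by
  refine P.of_isPullback (isPullback_map_left y ((Over.pullback q).map u)) ?_
  exact P.of_isPullback (isPullback_map_left q u) h

lemma prop_bc2 {P : MorphismProperty Scheme.{u}} [P.IsStableUnderBaseChange] {G : Over S}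
    (h : P G.hom) : P (bc2 y q G).hom :=
  P.pullback_snd _ _ (P.pullback_snd _ _ h)

end Groth.Agent.Sga3.H832.BcPt
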