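import Groth.Agent.Sga3.H832.PowRange
import Groth.Agent.Sga3.H832.TorExt
import Groth.Prelude.Def_SGA3x
import Mathlib.AlgebraicGeometry.ValuativeCriterion
import Mathlib.Algebra.GCDMonoid.IntegrallyClosed
import Mathlib.RingTheory.Bezout

/-!
# Integral points of `H` which are generically in a subgroup `G` with a maximal torus (closedness core)

Over a valuation ring `R` with fraction field `K`: `u : G ⟶ H` a monomorphism of group schemes, `H` separated and
of finite type, `i : T ⟶ G` a split torus.  Assume that (A) homomorphisms `T ⟶ H` which are generically in `G` are in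
`G`; (T) `T(K) ∩ H(R)` with closed point in `T` is `T(R)`; (C) monomorphic homomorphisms `T ⟶ G` are conjugate
under `G(R)`; (NL) the points of `G(K)` normalizing `T_K` are in `G(R) T(K)`.  Then `G(K) ∩ H(R) = G(R)`.
-/

set_option autoImplicit false
universe u
open CategoryTheory MonoidalCategory CartesianMonoidalCategory MonObj GrpObj AlgebraicGeometry Limits

namespace Groth.Agent.Sga3.H832.ClosedCore

open TorExt PowRange

section conj

variable {S : Scheme.{u}} {G H : Over S} [GrpObj G] [GrpObj H]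

/-- conjugate of a morphism into a group by a section -/
noncomputable def cj {T : Over S} (h : 𝟙_ (Over S) ⟶ H) (a : T ⟶ H) : T ⟶ H :=
  (toUnit T ≫ h) * a * (toUnit T ≫ h)⁻¹

lemma comp_cj {T X : Over S} (h : 𝟙_ (Over S) ⟶ H) (a : T ⟶ H) (x : X ⟶ T) :
    x ≫ cj h a = (toUnit X ≫ h) * (x ≫ a) * (toUnit X ≫ h)⁻¹ := by
  rw [cj, MonObj.comp_mul, MonObj.comp_mul, GrpObj.comp_inv, ← Category.assoc, comp_toUnit]

lemma isMonHom_of_mul {𝒞 : Type*} [Category 𝒞] [CartesianMonoidalCategory 𝒞] {G H : 𝒞} [GrpObj G] [GrpObj H]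
    (f : G ⟶ H) (h : ∀ (T : 𝒞) (x y : T ⟶ G), (x * y) ≫ f = (x ≫ f) * (y ≫ f)) : IsMonHom f where
  one_hom := by
    have h1 := h (𝟙_ _) 1 1
    rw [_root_.mul_one] at h1
    rw [MonObj.one_eq_one, MonObj.one_eq_one]
    exact (mul_eq_left.mp h1.symm)
  mul_hom := by
    have h1 := h (G ⊗ G) (fst _ _) (snd _ _)
    rw [← MonObj.mul_eq_mul] at h1
    rw [h1, Hom.mul_def]
    congr 1
    ext <;> simp

lemma isMonHom_cj {T : Over S} [GrpObj T] (h : 𝟙_ (Over S) ⟶ H) (a : T ⟶ H) [IsMonHom a] :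
    IsMonHom (cj h a) := by
  refine isMonHom_of_mul _ fun X x y => ?_
  rw [comp_cj, comp_cj, comp_cj, MonObj.mul_comp]
  group

lemma mono_cj {T : Over S} (h : 𝟙_ (Over S) ⟶ H) (a : T ⟶ H) [Mono a] : Mono (cj h a) := by
  refine ⟨fun {X} x y hxy => ?_⟩
  rw [comp_cj, comp_cj] at hxy
  have h1 := mul_left_cancel (mul_right_cancel hxy)
  exact (cancel_mono a).mp h1

end conj

variable {R K : Type u} [CommRing R] [Field K] [Algebra R K]

/-- two sections of a separated scheme over a domain which agree generically are equal -/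
lemma section_ext [IsDomain R] [IsFractionRing R K] {H : Over (Spec (CommRingCat.of R))} [IsSeparated H.hom]
    (a b : 𝟙_ (Over (Spec (CommRingCat.of R))) ⟶ H) (h : toUnit (gen R K) ≫ a = toUnit (gen R K) ≫ b) :
    a = b := by
  have hdom : IsDominant (Spec.map (CommRingCat.ofHom (algebraMap R K))) := by
    refine ⟨?_⟩
    have h1 : RingHom.ker (algebraMap R K) ≤ nilradical R := by
      rw [(RingHom.injective_iff_ker_eq_bot _).mp (IsFractionRing.injective R K)]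
      exact bot_le
    exact (PrimeSpectrum.denseRange_comap_iff_ker_le_nilRadical _).mpr h1
  ext1
  have h1 := congrArg (fun f : gen R K ⟶ H => f.left) h
  have h2 : (toUnit (gen R K)).left = Spec.map (CommRingCat.ofHom (algebraMap R K)) := Over.toUnit_left
  simp only [Over.comp_left, h2] at h1
  have hred : IsReduced (𝟙_ (Over (Spec (CommRingCat.of R)))).left :=
    inferInstanceAs (IsReduced (Spec (CommRingCat.of R)))
  exact ext_of_isDominant_of_isSeparated H.hom ((Over.w a).trans (Over.w b).symm) _ h1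

lemma isIntegrallyClosed [IsDomain R] [ValuationRing R] : IsIntegrallyClosed R := by
  classical
  let _ := IsBezout.toGCDDomain R
  infer_instance

/-- the torus case -/
theorem torus_mem [IsDomain R] [ValuationRing R] [IsFractionRing R K]
    {H T : Over (Spec (CommRingCat.of R))} [GrpObj H] [GrpObj T]
    [IsSeparated H.hom] [LocallyOfFiniteType H.hom] [QuasiCompact H.hom] (v : T ⟶ H) [IsMonHom v] [Mono v]
    {M : Type} [AddCommGroup M] (hM : Red.IsSplitTorusWith M T)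
    (hd : Dense (Set.range (fst T (gen R K)).left)) (himm : IsImmersion v.left)
    (hT : ∀ (t : gen R K ⟶ T) (h : 𝟙_ (Over (Spec (CommRingCat.of R))) ⟶ H), t ≫ v = toUnit _ ≫ h →
      h.left (IsLocalRing.closedPoint R) ∈ Set.range v.left → ∃ t' : 𝟙_ (Over (Spec (CommRingCat.of R))) ⟶ T, t' ≫ v = h)
    (t : gen R K ⟶ T) (h : 𝟙_ (Over (Spec (CommRingCat.of R))) ⟶ H) (ht : t ≫ v = toUnit _ ≫ h) :
    ∃ t' : 𝟙_ (Over (Spec (CommRingCat.of R))) ⟶ T, t' ≫ v = h := by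
  have hic : IsIntegrallyClosed R := isIntegrallyClosed
  obtain ⟨N, hN, hN'⟩ := exists_pow_mem_range v hd h t ht
  have h1 : (t ^ N) ≫ v = toUnit _ ≫ (h ^ N) := by
    rw [pow_comp v, ht]
    clear hN hN'
    induction N with
    | zero => rw [pow_zero, pow_zero, MonObj.comp_one]
    | succ n ih => rw [pow_succ, pow_succ, MonObj.comp_mul, ih]
  obtain ⟨t₁, ht₁⟩ := hT (t ^ N) (h ^ N) h1 hN'
  obtain ⟨t₂, ht₂⟩ := exists_ext hM N hN t t₁ (by
    rw [← cancel_mono v, h1, Category.assoc, ht₁])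
  refine ⟨t₂, section_ext (K := K) _ _ ?_⟩
  rw [← Category.assoc, ht₂, ht]

theorem mem_of_generic [IsDomain R] [ValuationRing R] [IsFractionRing R K]
    {G H T : Over (Spec (CommRingCat.of R))} [GrpObj G] [GrpObj H] [GrpObj T]
    [IsSeparated H.hom] [LocallyOfFiniteType H.hom] [QuasiCompact H.hom]
    (u : G ⟶ H) [IsMonHom u] [Mono u] (i : T ⟶ G) [IsMonHom i] [Mono i]
    {M : Type} [AddCommGroup M] (hM : Red.IsSplitTorusWith M T)
    (hd : Dense (Set.range (fst T (gen R K)).left)) (himm : IsImmersion (i ≫ u).left)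
    (hA : ∀ φ : T ⟶ H, IsMonHom φ → (∃ ψ : T ⊗ gen R K ⟶ G, ψ ≫ u = fst _ _ ≫ φ) → ∃ j : T ⟶ G, j ≫ u = φ)
    (hT : ∀ (t : gen R K ⟶ T) (h : 𝟙_ (Over (Spec (CommRingCat.of R))) ⟶ H), t ≫ i ≫ u = toUnit _ ≫ h →
      h.left (IsLocalRing.closedPoint R) ∈ Set.range (i ≫ u).left →
        ∃ t' : 𝟙_ (Over (Spec (CommRingCat.of R))) ⟶ T, t' ≫ i ≫ u = h)
    (hC : ∀ j : T ⟶ G, IsMonHom j → Mono j →
      ∃ g₀ : 𝟙_ (Over (Spec (CommRingCat.of R))) ⟶ G, SGA3x.ConjBy i j g₀)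
    (hNL : ∀ n : gen R K ⟶ G, (∀ (X : Over (Spec (CommRingCat.of R))) (x : X ⟶ gen R K) (t : X ⟶ T),
        (∃ t' : X ⟶ T, (x ≫ n) * (t ≫ i) * (x ≫ n)⁻¹ = t' ≫ i) ∧
        (∃ t' : X ⟶ T, (x ≫ n)⁻¹ * (t ≫ i) * (x ≫ n) = t' ≫ i)) →
      ∃ (n₀ : 𝟙_ (Over (Spec (CommRingCat.of R))) ⟶ G) (t : gen R K ⟶ T), n = (toUnit _ ≫ n₀) * (t ≫ i))
    (h : 𝟙_ (Over (Spec (CommRingCat.of R))) ⟶ H) (g : gen R K ⟶ G) (hg : g ≫ u = toUnit _ ≫ h) :
    ∃ g' : 𝟙_ (Over (Spec (CommRingCat.of R))) ⟶ G, g' ≫ u = h := by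
  -- the conjugate torus is in `G`
  obtain ⟨j, hj⟩ := hA (cj h (i ≫ u)) (isMonHom_cj h (i ≫ u))
    ⟨(snd _ _ ≫ g) * (fst _ _ ≫ i) * (snd _ _ ≫ g)⁻¹, by
      rw [comp_cj, MonObj.mul_comp, MonObj.mul_comp, GrpObj.inv_comp, Category.assoc, hg, ← Category.assoc,
        comp_toUnit, Category.assoc]⟩
  have hj1 : IsMonHom (j ≫ u) := by rw [hj]; exact isMonHom_cj h (i ≫ u)
  have hj2 : Mono (j ≫ u) := by rw [hj]; exact mono_cj h (i ≫ u)
  have hj3 : Mono j := mono_of_mono j u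
  have hj4 : IsMonHom j := isMonHom_of_mul _ fun X x y => by
    rw [← cancel_mono u, Category.assoc, MonObj.mul_comp, MonObj.mul_comp, Category.assoc, Category.assoc]
  obtain ⟨g₀, φ, hφ⟩ := hC j hj4 hj3
  -- conjugation by `g`
  have key : ∀ (X : Over (Spec (CommRingCat.of R))) (x : X ⟶ gen R K) (t : X ⟶ T),
      (x ≫ g) * (t ≫ i) * (x ≫ g)⁻¹ = t ≫ j := by
    intro X x t
    rw [← cancel_mono u, MonObj.mul_comp, MonObj.mul_comp, GrpObj.inv_comp, Category.assoc, Category.assoc,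
      Category.assoc, hj, comp_cj, hg, ← Category.assoc x, comp_toUnit]
  have key2 : ∀ (X : Over (Spec (CommRingCat.of R))) (t : X ⟶ T),
      (toUnit X ≫ g₀) * (t ≫ i) * (toUnit X ≫ g₀)⁻¹ = (t ≫ φ.hom) ≫ j := by
    intro X t
    have h1 := congrArg (fun f => t ≫ f) hφ
    simp only [MonObj.comp_mul, GrpObj.comp_inv] at h1
    rw [← Category.assoc, comp_toUnit] at h1
    rw [h1, Category.assoc]
  obtain ⟨n₀, t, hn⟩ := hNL ((toUnit _ ≫ g₀)⁻¹ * g) (fun X x t => by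
    have h0 : x ≫ toUnit (gen R K) ≫ g₀ = toUnit X ≫ g₀ := by rw [← Category.assoc, comp_toUnit]
    constructor
    · refine ⟨t ≫ φ.inv, ?_⟩
      have h1 := key X x t
      have h2 := key2 X (t ≫ φ.inv)
      have h4 : (t ≫ φ.inv) ≫ φ.hom = t := by rw [Category.assoc, φ.inv_hom_id, Category.comp_id]
      rw [h4, ← h1] at h2
      rw [MonObj.comp_mul, GrpObj.comp_inv, h0]
      have h3 : (t ≫ φ.inv) ≫ i = (toUnit X ≫ g₀)⁻¹ * ((x ≫ g) * (t ≫ i) * (x ≫ g)⁻¹) * (toUnit X ≫ g₀) := by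
        rw [← h2]; group
      rw [h3]; group
    · refine ⟨t ≫ φ.hom, ?_⟩
      have h1 := key X x (t ≫ φ.hom)
      have h2 := key2 X t
      rw [MonObj.comp_mul, GrpObj.comp_inv, h0]
      have h3 : (t ≫ φ.hom) ≫ i = (x ≫ g)⁻¹ * ((toUnit X ≫ g₀) * (t ≫ i) * (toUnit X ≫ g₀)⁻¹) * (x ≫ g) := by
        rw [h2, ← h1]; group
      rw [h3]; group)
  have hg' : g = (toUnit _ ≫ (g₀ * n₀)) * (t ≫ i) := by
    rw [MonObj.comp_mul, _root_.mul_assoc, ← hn]; group
  -- the torus part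
  have ht : t ≫ (i ≫ u) = toUnit _ ≫ (((g₀ * n₀) ≫ u)⁻¹ * h) := by
    rw [MonObj.comp_mul, GrpObj.comp_inv, ← hg, ← Category.assoc, ← Category.assoc, eq_inv_mul_iff_mul_eq,
      ← MonObj.mul_comp, ← hg']
  obtain ⟨t', ht'⟩ := torus_mem (i ≫ u) hM hd himm hT t _ ht
  refine ⟨g₀ * n₀ * (t' ≫ i), ?_⟩
  rw [MonObj.mul_comp, Category.assoc, ht']
  group

end Groth.Agent.Sga3.H832.ClosedCore
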