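import Groth.Agent.Sga3B.AlgBc2
import Groth.Prelude.Def_SGA3x

/-!
# Maximal tori étale-locally and fpqc-locally
-/

set_option autoImplicit false
universe u
open CategoryTheory MonoidalCategory CartesianMonoidalCategory MonObj GrpObj AlgebraicGeometry Limits

namespace Groth.Agent.Sga3.H832.EtFpqc

theorem hasMaxTorusFpqcLocally_of_etale {S : Scheme.{u}} {G : Over S} [GrpObj G]
    (h : SGA3x.HasMaxTorusEtaleLocally G) : SGA3x.HasMaxTorusFpqcLocally G := by
  obtain ⟨S', f, he, hs, T, hT, i, hi⟩ := h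
  exact ⟨S', f, inferInstance, hs, fun V hV => Groth.Agent.Sga3B.AlgBc.qc_cover_of_isOpenMap f f.isOpenMap V hV, T, hT, i, hi⟩

end Groth.Agent.Sga3.H832.EtFpqc
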