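import Mathlib.RingTheory.Henselian
import Mathlib.RingTheory.Valuation.ValuationRing
import Mathlib.RingTheory.LocalRing.ResidueField.Basic
import Mathlib.FieldTheory.IsAlgClosed.Basic
import Mathlib.RingTheory.IntegralClosure.IntegrallyClosed
import Mathlib.RingTheory.Bezout
import Mathlib.Algebra.GCDMonoid.IntegrallyClosed

/-!
# Valuation rings with algebraically closed fraction field

They are henselian and their residue field is algebraically closed.
-/

set_option autoImplicit false

universe u

open Polynomial IsLocalRing

namespace Groth.Agent.Sga3.H832.HensVal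

variable (R K : Type*) [CommRing R] [IsDomain R] [ValuationRing R] [Field K] [Algebra R K]
  [IsFractionRing R K] [IsAlgClosed K]

omit [Field K] [Algebra R K] [IsFractionRing R K] [IsAlgClosed K] in
lemma isIntegrallyClosed : IsIntegrallyClosed R := by
  classical
  let _ := IsBezout.toGCDDomain R
  infer_instance

include K

/-- A valuation ring with algebraically closed fraction field is henselian. -/
theorem henselianLocalRing : HenselianLocalRing R := by
  refine ⟨fun f hf a₀ h1 h2 => ?_⟩
  have hic := isIntegrallyClosed R
  have hinj : Function.Injective (algebraMap R K) := IsFractionRing.injective R K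
  have hsp : (f.map (algebraMap R K)).Splits := IsAlgClosed.splits _
  have hroot : ∀ x ∈ (f.map (algebraMap R K)).roots, ∃ r : R, algebraMap R K r = x := by
    intro x hx
    have hx' : eval₂ (algebraMap R K) x f = 0 := by
      have := (mem_roots'.mp hx).2
      rwa [IsRoot.def, eval_map] at this
    exact IsIntegrallyClosed.isIntegral_iff.mp ⟨f, hf, hx'⟩
  by_contra hcon
  push Not at hcon
  have hunit : ∀ x ∈ (f.map (algebraMap R K)).roots.map (fun x => algebraMap R K a₀ - x),
      ∃ v : Rˣ, algebraMap R K v = x := by
    intro y hy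
    obtain ⟨x, hx, rfl⟩ := Multiset.mem_map.mp hy
    obtain ⟨r, rfl⟩ := hroot x hx
    have hr : f.IsRoot r := by
      have h3 := (mem_roots'.mp hx).2
      rw [IsRoot.def, eval_map_algebraMap, aeval_algebraMap_apply, map_eq_zero_iff _ hinj] at h3
      rwa [IsRoot.def, ← coe_aeval_eq_eval]
    have h4 := hcon r hr
    have h5 : IsUnit (a₀ - r) := by
      by_contra h6
      apply h4
      rw [← neg_sub]
      exact neg_mem ((mem_maximalIdeal _).mpr h6)
    exact ⟨h5.unit, by rw [IsUnit.unit_spec, map_sub]⟩
  obtain ⟨v, hv⟩ := Multiset.prod_induction (fun x => ∃ v : Rˣ, algebraMap R K v = x) _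
    (by rintro _ _ ⟨a, rfl⟩ ⟨b, rfl⟩; exact ⟨a * b, by simp⟩) ⟨1, by simp⟩ hunit
  have h6 : algebraMap R K (f.eval a₀) = algebraMap R K v := by
    rw [hv, ← eval_map_apply, hsp.eval_eq_prod_roots_of_monic (hf.map _)]
  have h7 : f.eval a₀ = v := hinj h6
  rw [h7] at h1
  exact (mem_maximalIdeal _).mp h1 v.isUnit

/-- The residue field of a valuation ring with algebraically closed fraction field is algebraically
closed. -/
theorem isAlgClosed_residueField : IsAlgClosed (ResidueField R) := by
  refine IsAlgClosed.of_exists_root _ fun p hp hirr => ?_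
  have hic := isIntegrallyClosed R
  have hinj : Function.Injective (algebraMap R K) := IsFractionRing.injective R K
  obtain ⟨q, hq, hdeg, hqm⟩ := lifts_and_degree_eq_and_monic
    ((mem_lifts _).mpr (map_surjective _ (residue_surjective (R := R)) p)) hp
  have h1 : (q.map (algebraMap R K)).degree ≠ 0 := by
    rw [degree_map_eq_of_injective hinj, hdeg]
    exact (degree_pos_of_irreducible hirr).ne'
  obtain ⟨x, hx⟩ := IsAlgClosed.exists_root _ h1
  have hx' : eval₂ (algebraMap R K) x q = 0 := by rwa [IsRoot.def, eval_map] at hx
  obtain ⟨r, rfl⟩ := IsIntegrallyClosed.isIntegral_iff.mp ⟨q, hqm, hx'⟩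
  refine ⟨residue R r, ?_⟩
  have h3 : q.eval r = 0 := by
    rw [← aeval_def, aeval_algebraMap_apply, map_eq_zero_iff _ hinj] at hx'
    rwa [← coe_aeval_eq_eval]
  rw [← hq, eval_map_apply, h3, map_zero]

end Groth.Agent.Sga3.H832.HensVal
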