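import Mathlib.AlgebraicGeometry.Morphisms.FlatMono
import Mathlib.AlgebraicGeometry.Morphisms.FinitePresentation

/-!
# Field-valued points in the range of a monomorphism lift

`exists_lift_of_mem_range`: `f : X ⟶ Y` a monomorphism of schemes, `y : Spec L ⟶ Y` a point with values in a
field whose image lies in the range of `f`; then `y` factors through `f`.
-/

set_option autoImplicit false
universe u
open CategoryTheory Limits AlgebraicGeometry

namespace Groth.Agent.Sga3.H832.MonoPt

theorem exists_lift_of_mem_range {X Y : Scheme.{u}} (f : X ⟶ Y) [Mono f] (L : Type u) [Field L]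
    (y : Spec (CommRingCat.of L) ⟶ Y) (p : Spec (CommRingCat.of L)) (hp : y p ∈ Set.range f) :
    ∃ x : Spec (CommRingCat.of L) ⟶ X, x ≫ f = y := by
  obtain ⟨x, hx⟩ := hp
  obtain ⟨z, -, -⟩ := Scheme.Pullback.exists_preimage_pullback (f := f) (g := y) x p hx
  obtain ⟨_, ⟨V, hV, rfl⟩, hzV, -⟩ :=
    (pullback f y).isBasis_affineOpens.exists_subset_of_mem_open (Set.mem_univ z) isOpen_univ
  have hV : IsAffineOpen V := hV
  have hVa : IsAffine (Scheme.Opens.toScheme V) := hV
  let g : Scheme.Opens.toScheme V ⟶ Spec (CommRingCat.of L) := Scheme.Opens.ι V ≫ pullback.snd f y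
  have hm : Mono g := mono_comp _ _
  have hs : Surjective g := ⟨fun q => ⟨⟨z, hzV⟩, Subsingleton.elim (α := PrimeSpectrum L) _ _⟩⟩
  have hfl : Flat g := inferInstance
  have : IsIso g := Flat.isIso_of_surjective_of_mono g
  refine ⟨inv g ≫ Scheme.Opens.ι V ≫ pullback.fst f y, ?_⟩
  rw [Category.assoc, Category.assoc, pullback.condition, ← Category.assoc (Scheme.Opens.ι V),
    IsIso.inv_hom_id_assoc]

end Groth.Agent.Sga3.H832.MonoPt
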