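import Groth.Prelude.Def_AlgGrp
import Groth.Agent.Sga3.H832.MonoPt
import Mathlib.AlgebraicGeometry.Noetherian
import Mathlib.AlgebraicGeometry.Morphisms.FiniteType
import Mathlib.AlgebraicGeometry.Morphisms.Immersion
import Mathlib.AlgebraicGeometry.Morphisms.UniversallyOpen

/-!
# A power of an integral point which is generically in a subgroup is integral in the subgroup

`u : T ⟶ H` an immersion of group schemes over a local ring, `T` with dense generic fibre (`T_E` dense),
`H` of finite type; `h : 𝟙_ ⟶ H` a section which is in `T` over `E`.  Then for some `N > 0` the closed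
point of `h ^ N` is in `T`.
-/

set_option autoImplicit false
universe u
open CategoryTheory MonoidalCategory CartesianMonoidalCategory MonObj GrpObj AlgebraicGeometry Limits

namespace Groth.Agent.Sga3.H832.PowRange

open MonoPt

variable {S : Scheme.{u}}

section tr

variable {H : Over S} [GrpObj H]

/-- left translation by a section -/
noncomputable def tr (h : 𝟙_ (Over S) ⟶ H) : H ⟶ H := (toUnit H ≫ h) * 𝟙 H

lemma comp_tr (h : 𝟙_ (Over S) ⟶ H) {X : Over S} (x : X ⟶ H) : x ≫ tr h = (toUnit X ≫ h) * x := by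
  rw [tr, MonObj.comp_mul, ← Category.assoc, comp_toUnit, Category.comp_id]

lemma tr_tr (h h' : 𝟙_ (Over S) ⟶ H) : tr h ≫ tr h' = tr (h' * h) := by
  rw [comp_tr, tr, tr, ← _root_.mul_assoc, ← MonObj.comp_mul]

lemma tr_one : tr (1 : 𝟙_ (Over S) ⟶ H) = 𝟙 H := by
  rw [tr, MonObj.comp_one, _root_.one_mul]

lemma tr_inv (h : 𝟙_ (Over S) ⟶ H) : tr h ≫ tr h⁻¹ = 𝟙 H := by
  rw [tr_tr, inv_mul_cancel, tr_one]

lemma tr_inv' (h : 𝟙_ (Over S) ⟶ H) : tr h⁻¹ ≫ tr h = 𝟙 H := by
  rw [tr_tr, mul_inv_cancel, tr_one]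

lemma tr_left_inv (h : 𝟙_ (Over S) ⟶ H) (x : H.left) : (tr h⁻¹).left ((tr h).left x) = x := by
  have h1 := congrArg (fun f : H ⟶ H => f.left x) (tr_inv h)
  simpa using h1

lemma tr_left_inv' (h : 𝟙_ (Over S) ⟶ H) (x : H.left) : (tr h).left ((tr h⁻¹).left x) = x := by
  have h1 := congrArg (fun f : H ⟶ H => f.left x) (tr_inv' h)
  simpa using h1

end tr

variable {T H E : Over S} [GrpObj T] [GrpObj H] (u : T ⟶ H) [IsMonHom u]

lemma tr_image_range (h : 𝟙_ (Over S) ⟶ H) (t : E ⟶ T) (ht : t ≫ u = toUnit E ≫ h) (w : (T ⊗ E).left) :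
    (tr h).left (u.left ((fst T E).left w)) ∈ Set.range u.left := by
  refine ⟨(((snd T E ≫ t) * fst T E : T ⊗ E ⟶ T)).left w, ?_⟩
  have h1 : ((snd T E ≫ t) * fst T E) ≫ u = (fst T E ≫ u) ≫ tr h := by
    rw [MonObj.mul_comp, comp_tr, Category.assoc, ht, ← Category.assoc, comp_toUnit]
  have h2 := congrArg (fun f : T ⊗ E ⟶ H => f.left w) h1
  simpa using h2

lemma tr_image_closure (hd : Dense (Set.range (fst T E).left)) (h : 𝟙_ (Over S) ⟶ H) (t : E ⟶ T)
    (ht : t ≫ u = toUnit E ≫ h) (z : H.left) (hz : z ∈ closure (Set.range u.left)) :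
    (tr h).left z ∈ closure (Set.range u.left) := by
  have h1 : closure (Set.range u.left) ⊆ closure (u.left '' Set.range (fst T E).left) := by
    refine closure_minimal ?_ isClosed_closure
    rintro _ ⟨x, rfl⟩
    exact image_closure_subset_closure_image u.left.continuous ⟨x, hd x, rfl⟩
  have h2 : Set.MapsTo (tr h).left (closure (u.left '' Set.range (fst T E).left)) (closure (Set.range u.left)) := by
    refine Set.MapsTo.closure ?_ (tr h).left.continuous
    rintro _ ⟨_, ⟨w, rfl⟩, rfl⟩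
    exact tr_image_range u h t ht w
  exact h2 (h1 hz)

/-- pigeonhole for subsets of a Noetherian space which are open in a common subset -/
lemma exists_ne_inter {X : Type*} [TopologicalSpace X] [TopologicalSpace.NoetherianSpace X] (Z : Set X)
    (V O : ℕ → Set X) (hO : ∀ j, IsOpen (O j)) (hV : ∀ j, V j = Z ∩ O j) (hne : ∀ j, (V j).Nonempty) :
    ∃ i j, i ≠ j ∧ (V i ∩ V j).Nonempty := by
  have h1 : IsCompact (⋃ j, V j) := TopologicalSpace.NoetherianSpace.isCompact _
  obtain ⟨t, ht⟩ := h1.elim_finite_subcover O hO (Set.iUnion_mono fun j => by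
    rw [hV j]; exact Set.inter_subset_right)
  obtain ⟨j, hj⟩ := t.exists_notMem
  obtain ⟨v, hv⟩ := hne j
  have h2 := ht (Set.mem_iUnion_of_mem j hv)
  simp only [Set.mem_iUnion, exists_prop] at h2
  obtain ⟨i, hi, hi'⟩ := h2
  refine ⟨i, j, fun h => hj (h ▸ hi), v, ?_, hv⟩
  rw [hV i]
  refine ⟨?_, hi'⟩
  rw [hV j] at hv
  exact hv.1

section

variable {R : Type u} [CommRing R] [IsLocalRing R]
  {T H E : Over (Spec (CommRingCat.of R))} [GrpObj T] [GrpObj H] (u : T ⟶ H) [IsMonHom u]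

theorem exists_pow_mem_range [LocallyOfFiniteType H.hom] [QuasiCompact H.hom] [IsImmersion u.left]
    (hd : Dense (Set.range (fst T E).left)) (h : 𝟙_ (Over (Spec (CommRingCat.of R))) ⟶ H) (t : E ⟶ T)
    (ht : t ≫ u = toUnit E ≫ h) :
    ∃ N : ℕ, 0 < N ∧ (h ^ N).left (IsLocalRing.closedPoint R) ∈ Set.range u.left := by
  -- the special fibre
  let k := IsLocalRing.ResidueField R
  let c : Spec (CommRingCat.of k) ⟶ Spec (CommRingCat.of R) :=
    Spec.map (CommRingCat.ofHom (IsLocalRing.residue R))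
  let Hk := pullback H.hom c
  let p : Hk ⟶ H.left := pullback.fst H.hom c
  have hN1 : IsLocallyNoetherian Hk := LocallyOfFiniteType.isLocallyNoetherian (pullback.snd H.hom c)
  have hN2 : CompactSpace Hk := QuasiCompact.compactSpace_of_compactSpace (pullback.snd H.hom c)
  have hN3 : IsNoetherian Hk := {}
  -- the closure
  let Z : Set H.left := closure (Set.range u.left)
  have hlc : IsLocallyClosed (Set.range u.left) := u.left.isLocallyClosed_range
  let O : Set H.left := coborder (Set.range u.left)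
  have hO : IsOpen O := hlc.isOpen_coborder
  have hOZ : Set.range u.left = Z ∩ O := by
    rw [Set.inter_comm]
    exact (coborder_inter_closure).symm
  -- powers
  have hpow : ∀ n : ℕ, (t ^ n) ≫ u = toUnit E ≫ (h ^ n) := by
    intro n
    induction n with
    | zero => rw [pow_zero, pow_zero, MonObj.one_comp, MonObj.comp_one]
    | succ n ih => rw [pow_succ, pow_succ, MonObj.mul_comp, ih, ht, MonObj.comp_mul]
  have hinv : ∀ n : ℕ, (t ^ n)⁻¹ ≫ u = toUnit E ≫ (h ^ n)⁻¹ := by
    intro n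
    rw [GrpObj.inv_comp, hpow, GrpObj.comp_inv]
  have hZ1 : ∀ (n : ℕ) (z : H.left), z ∈ Z → (tr (h ^ n)).left z ∈ Z := fun n z hz =>
    tr_image_closure u hd (h ^ n) (t ^ n) (hpow n) z hz
  have hZ2 : ∀ (n : ℕ) (z : H.left), z ∈ Z → (tr (h ^ n)⁻¹).left z ∈ Z := fun n z hz =>
    tr_image_closure u hd (h ^ n)⁻¹ (t ^ n)⁻¹ (hinv n) z hz
  -- the translates
  let W : ℕ → Set H.left := fun n => (tr (h ^ n)⁻¹).left ⁻¹' (Set.range u.left)
  let O' : ℕ → Set H.left := fun n => (tr (h ^ n)⁻¹).left ⁻¹' O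
  have hW : ∀ n, W n = Z ∩ O' n := by
    intro n
    ext z
    simp only [W, O', Set.mem_preimage, hOZ, Set.mem_inter_iff]
    refine and_congr_left fun _ => ⟨fun hz => ?_, fun hz => hZ2 n z hz⟩
    have := hZ1 n _ hz
    rwa [tr_left_inv'] at this
  have hO' : ∀ n, IsOpen (O' n) := fun n => hO.preimage (tr (h ^ n)⁻¹).left.continuous
  have hc : Set.range c = {IsLocalRing.closedPoint R} := by
    ext q
    constructor
    · rintro ⟨q', rfl⟩
      have h1 : q' = IsLocalRing.closedPoint k := Subsingleton.elim (α := PrimeSpectrum k) _ _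
      rw [h1]
      exact IsLocalRing.comap_closedPoint (IsLocalRing.residue R)
    · rintro rfl
      exact ⟨IsLocalRing.closedPoint k, IsLocalRing.comap_closedPoint (IsLocalRing.residue R)⟩
  have hp : ∀ z : H.left, z ∈ Set.range p ↔ H.hom z = IsLocalRing.closedPoint R := by
    intro z
    rw [Scheme.Pullback.range_fst, hc]
    rfl
  have hsec : ∀ (a : 𝟙_ (Over (Spec (CommRingCat.of R))) ⟶ H) (x : Spec (CommRingCat.of R)),
      H.hom (a.left x) = x := by
    intro a x
    exact congrArg (fun f : Spec (CommRingCat.of R) ⟶ Spec (CommRingCat.of R) => f x) (Over.w a)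
  obtain ⟨i, j, hij, v, hvi, hvj⟩ := exists_ne_inter (X := Hk) (p ⁻¹' Z) (fun n => p ⁻¹' (W n))
    (fun n => p ⁻¹' (O' n)) (fun n => (hO' n).preimage p.continuous) (fun n => by
      rw [hW n, Set.preimage_inter]) (fun n => by
      obtain ⟨v, hv⟩ := (hp ((h ^ n).left (IsLocalRing.closedPoint R))).mpr (hsec _ _)
      refine ⟨v, ?_⟩
      change (tr (h ^ n)⁻¹).left (p v) ∈ Set.range u.left
      rw [hv]
      refine ⟨(1 : 𝟙_ (Over (Spec (CommRingCat.of R))) ⟶ T).left (IsLocalRing.closedPoint R), ?_⟩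
      have h1 : (h ^ n) ≫ tr (h ^ n)⁻¹ = (1 : 𝟙_ (Over (Spec (CommRingCat.of R))) ⟶ T) ≫ u := by
        rw [comp_tr, MonObj.one_comp]
        have h2 : toUnit (𝟙_ (Over (Spec (CommRingCat.of R)))) = 𝟙 _ := toUnit_unique _ _
        rw [h2, Category.id_comp, inv_mul_cancel]
      have h2 := congrArg (fun f : 𝟙_ (Over (Spec (CommRingCat.of R))) ⟶ H =>
        f.left (IsLocalRing.closedPoint R)) h1
      exact h2.symm)
  -- the point
  let z : H.left := p v
  have hz : H.hom z = IsLocalRing.closedPoint R := (hp z).mp ⟨v, rfl⟩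
  let L := H.left.residueField z
  let y : Spec (CommRingCat.of L) ⟶ H.left := H.left.fromSpecResidueField z
  let pt : Spec (CommRingCat.of L) := IsLocalRing.closedPoint L
  have hy : y pt = z := Scheme.fromSpecResidueField_apply z pt
  let Λ : Over (Spec (CommRingCat.of R)) := Over.mk (y ≫ H.hom)
  let y' : Λ ⟶ H := Over.homMk y
  have key : ∀ n : ℕ, p v ∈ W n → ∃ a : Λ ⟶ T, y' = (toUnit Λ ≫ h ^ n) * (a ≫ u) := by
    intro n hn
    obtain ⟨a, ha⟩ := exists_lift_of_mem_range u.left L (y' ≫ tr (h ^ n)⁻¹).left pt (by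
      have : (y' ≫ tr (h ^ n)⁻¹).left pt = (tr (h ^ n)⁻¹).left z := by
        rw [← hy]; rfl
      rw [this]
      exact hn)
    let a' : Λ ⟶ T := Over.homMk a (by
      rw [← Over.w u, reassoc_of% ha]
      exact Over.w (y' ≫ tr (h ^ n)⁻¹))
    have ha' : a' ≫ u = y' ≫ tr (h ^ n)⁻¹ := by
      ext1
      exact ha
    refine ⟨a', ?_⟩
    rw [ha', comp_tr, ← _root_.mul_assoc, GrpObj.comp_inv, mul_inv_cancel, _root_.one_mul]
  obtain ⟨a, ha⟩ := key i hvi
  obtain ⟨b, hb⟩ := key j hvj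
  have main : ∀ (i j : ℕ) (a b : Λ ⟶ T), i < j → y' = (toUnit Λ ≫ h ^ i) * (a ≫ u) →
      y' = (toUnit Λ ≫ h ^ j) * (b ≫ u) → ∃ N : ℕ, 0 < N ∧
        (h ^ N).left (IsLocalRing.closedPoint R) ∈ Set.range u.left := by
    intro i j a b hij ha hb
    refine ⟨j - i, Nat.sub_pos_of_lt hij, ?_⟩
    have h1 : toUnit Λ ≫ h ^ (j - i) = (a * b⁻¹) ≫ u := by
      have h2 : h ^ j = h ^ i * h ^ (j - i) := by rw [← pow_add, Nat.add_sub_cancel' hij.le]
      rw [h2, MonObj.comp_mul] at hb
      rw [MonObj.mul_comp, GrpObj.inv_comp, eq_mul_inv_iff_mul_eq]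
      rw [ha, _root_.mul_assoc] at hb
      exact (mul_left_cancel hb).symm
    refine ⟨(a * b⁻¹).left pt, ?_⟩
    have h3 := congrArg (fun f : Λ ⟶ H => f.left pt) h1
    have h4 : (toUnit Λ).left pt = IsLocalRing.closedPoint R := by
      rw [← hz, ← hy]
      rfl
    have h5 : (toUnit Λ ≫ h ^ (j - i)).left pt = (h ^ (j - i)).left ((toUnit Λ).left pt) := rfl
    rw [← h4, ← h5]
    exact h3.symm
  rcases lt_or_gt_of_ne hij with h' | h'
  · exact main i j a b h' ha hb
  · exact main j i b a h' hb ha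

end

end Groth.Agent.Sga3.H832.PowRange
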