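import Groth.Agent.Sga3.H832.RTLoc
import Groth.Agent.Sga3.H832.SelfCent
import Groth.Agent.Sga3.H804.RtMain

/-!
# `H804.RtMain.QLoc`
-/

set_option autoImplicit false
universe u
open CategoryTheory MonoidalCategory CartesianMonoidalCategory MonObj GrpObj AlgebraicGeometry Limits

namespace Groth.Agent.Sga3.H832.RTQLoc

open Groth.Agent.Sga3B Groth.Agent.Sga3B.MaxTorBc636 Groth.Agent.Sga3B.GLn
  Groth.Agent.Redsub.H649.ConjPts Groth.Agent.Sga3.H813.RepCrit Groth.Agent.Sga3.H832.VT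

/-- Transport of `EQ` along an isomorphism of the source. -/
lemma eQ_of_comp {S : Scheme.{u}} {G T T' M : Over S} [GrpObj G] (e : T' ⟶ T) (e' : T ⟶ T')
    (he : e' ≫ e = 𝟙 T) {i : T ⟶ G} {i' : T' ⟶ G} (h : e ≫ i = i') {q : G ⟶ M} (hq : EQ i q) : EQ i' q := by
  have key : ∀ (X : Over S) (a c : X ⟶ G), InC i' a c ↔ InC i a c := by
    intro X a c
    constructor
    · rintro ⟨x, hx⟩
      exact ⟨x ≫ e, by rw [Category.assoc, h, hx]⟩
    · rintro ⟨x, hx⟩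
      refine ⟨x ≫ e', ?_⟩
      rw [← h, Category.assoc, ← Category.assoc e', he, Category.id_comp, hx]
  intro X a b
  rw [hq X a b]
  constructor
  · intro H Y y c
    rw [key, key]
    exact H Y y c
  · intro H Y y c
    rw [← key, ← key]
    exact H Y y c

lemma dsBcIso_inv_hom {R B : Type u} [CommRing R] [CommRing B] (φ : R →+* B) (M : Type) [AddCommGroup M] :
    (TorusAlgClosed.dsBcIso (sp0 φ) M).inv.hom.hom ≫ (TorusAlgClosed.dsBcIso (sp0 φ) M).hom.hom.hom = 𝟙 _ :=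
  congrArg (fun k => k.hom.hom) (TorusAlgClosed.dsBcIso (sp0 φ) M).inv_hom_id

theorem eQ_up {R B : Type u} [CommRing R] [CommRing B] (φ : R →+* B) {M : Type} [AddCommGroup M]
    {Q : Over (Spec (CommRingCat.of R))} [GrpObj Q] {τ : Red.DS (Spec (CommRingCat.of R)) M ⟶ Q}
    {𝒯 : Over (Spec (CommRingCat.of B))} {q : Red.bc (sp0 φ) Q ⟶ 𝒯} (h : EQ (up φ τ) q) :
    EQ ((Over.pullback (sp0 φ)).map τ) q :=
  eQ_of_comp _ _ (dsBcIso_inv_hom φ M) (iso_up φ τ) h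

theorem qLoc : H804.RtMain.QLoc.{u} := by
  intro R _ m _ _ Q _ _ _ _ ρ _ _ r τ _ _ hself s
  obtain ⟨B, _, φ, hφ, hs, 𝒯, q, hL⟩ := RTLoc.exists_local ρ τ
    (H832.SelfCent.isMaximalTorus_of_selfC (MaxTorusCrit.isTorus_DS _ r) hself) s
  refine ⟨_, sp0 φ, hφ, hs, 𝒯, q, hL.smooth, hL.isAffineHom, hL.smooth_q, hL.surjective_q, ?_⟩
  exact eQ_up φ (hL.eQ (RTLoc.selfC_up φ hself))

/-- **Clause (3) of S4124.** -/
theorem rtProp : H804.Asm.RTProp.{u} := H804.RtMain.rtProp qLoc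

end Groth.Agent.Sga3.H832.RTQLoc
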