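import Groth.Agent.Sga3.H832.AProp
import Groth.Agent.Sga3.H832.Asm4145
import Groth.Agent.Sga3.H832.EtFpqc
import Groth.Agent.Sga3.H804.MtMain

/-! # S4145 from the torus criterion -/

set_option autoImplicit false
universe u
open CategoryTheory MonoidalCategory CartesianMonoidalCategory MonObj GrpObj AlgebraicGeometry Limits

namespace Groth.Agent.Sga3.H832.S4145TC

/-- **S4145** from the torus criterion. -/
theorem s4145_tc (hTC : H804.MtNbhd.TorusCrit.{u}) (S : Scheme.{u}) (G H : Over S) [GrpObj G] [GrpObj H]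
    [Smooth G.hom] [QuasiCompact G.hom] [QuasiSeparated G.hom] (hu0 : SGA3x.UnipotentRankZero G)
    (haff : ∀ s : S, IsAffine (pullback G.hom (S.fromSpecResidueField s)))
    (hconn : ∀ s : S, _root_.IsConnected (G.hom.base ⁻¹' {s}))
    (hsolv : ∀ s : S, Red.IsSolvableGrp (Red.geomFibre s G))
    [LocallyOfFinitePresentation H.hom] [QuasiCompact H.hom] [QuasiSeparated H.hom]
    (u : G ⟶ H) [IsMonHom u] [Mono u] :
    IsImmersion u.left ∧ (IsSeparated H.hom → IsClosedImmersion u.left) := by
  have h1 : IsSeparated G.hom := Asm4144.isSeparated_of_connected G hconn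
  exact Asm4145.s4145_of AProp.aProp AProp.tProp S G H hu0 haff hconn hsolv
    (EtFpqc.hasMaxTorusFpqcLocally_of_etale
      (H804.MtMain.hasMaxTorusEtaleLocally hTC G (H804.DimOne.affFib_of_fibres G.hom haff) hu0)) u

end Groth.Agent.Sga3.H832.S4145TC
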