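import Groth.Agent.Sga3.H832.VTCore
import Groth.Agent.Sga3.H832.Asm4144
import Groth.Agent.Sga3.H819.ClosedOrbit
import Groth.Agent.Sga3.H819.BcGL
import Groth.Agent.Sga3B.SplitBc264

/-!
# The valuative hypothesis of `H819.ClosedOrbit.exists_quot`

`Q` smooth, separated, quasi-compact over `Spec R` with a monomorphism `ρ : Q ⟶ GL_m`, `τ : D(M) ⟶ Q` a maximal
torus, `ψ : Γ → D(M)(R)` the points of order dividing `N`, separating the weights of `ρ τ`: then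
`ClosedOrbit.ValHyp ρ (τ ψ)`.
-/

set_option autoImplicit false
universe u
open CategoryTheory MonoidalCategory CartesianMonoidalCategory MonObj GrpObj AlgebraicGeometry Limits
open IsLocalRing

namespace Groth.Agent.Sga3.H832.VT

open Groth.Agent.Sga3.H765.WtMat Groth.Agent.Sga3.H765.TorsFix Groth.Agent.Sga3B Groth.Agent.Sga3B.GLn
  Groth.Agent.Sga3B.DSPts
open Groth.Agent.Sga3.H832.TorExt (gen)

section bc

variable {R V : Type u} [CommRing R] [CommRing V] (φ : R →+* V) {M : Type} [AddCommGroup M]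

/-- the structure morphism -/
noncomputable abbrev sp0 : Spec (CommRingCat.of V) ⟶ Spec (CommRingCat.of R) :=
  Spec.map (CommRingCat.ofHom φ)

lemma st_mk (X : Over (Spec (CommRingCat.of V))) (r : R) :
    st ((Over.map (sp0 φ)).obj X) r = st X (φ r) := by
  rw [st_apply, st_apply]
  change (X.hom ≫ sp0 φ).appTop _ = _
  rw [Scheme.Hom.comp_appTop, CommRingCat.comp_apply]
  have := Scheme.ΓSpecIso_inv_naturality (CommRingCat.ofHom φ)
  exact congrArg X.hom.appTop (congr($(this).hom r)).symm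

lemma sti_st (R : Type u) [CommRing R] (v : R) : sti R (st (𝟙_ (Over (Spec (CommRingCat.of R)))) v) = v := by
  rw [st_apply]
  have h1 : (𝟙_ (Over (Spec (CommRingCat.of R)))).hom = 𝟙 _ := rfl
  rw [h1, Scheme.Hom.id_appTop]
  have h2 := (Scheme.ΓSpecIso (CommRingCat.of R)).inv_hom_id
  exact congr($(h2).hom v)

lemma st_SP' (r : R) : st (SP φ) r = st (𝟙_ (Over (Spec (CommRingCat.of V)))) (φ r) := by
  rw [st_SP, st_apply]
  have h1 : (𝟙_ (Over (Spec (CommRingCat.of V)))).hom = 𝟙 _ := rfl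
  rw [h1, Scheme.Hom.id_appTop]
  rfl

/-- the point over `R` attached to a point over `V` -/
noncomputable def lo {X : Over (Spec (CommRingCat.of V))} (x : X ⟶ Red.DS (Spec (CommRingCat.of V)) M) :
    (Over.map (sp0 φ)).obj X ⟶ Red.DS (Spec (CommRingCat.of R)) M :=
  dsEquiv ((Over.map (sp0 φ)).obj X) M (dsChar (S := Spec (CommRingCat.of V)) (T := X) x)

lemma dsChar_lo {X : Over (Spec (CommRingCat.of V))} (x : X ⟶ Red.DS (Spec (CommRingCat.of V)) M) :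
    dsChar (lo φ x) = dsChar (S := Spec (CommRingCat.of V)) (T := X) x :=
  dsChar_dsEquiv (T := (Over.map (sp0 φ)).obj X) _

lemma map_lo {X Y : Over (Spec (CommRingCat.of V))} (f : Y ⟶ X) (x : X ⟶ Red.DS (Spec (CommRingCat.of V)) M) :
    (Over.map (sp0 φ)).map f ≫ lo φ x = lo φ (f ≫ x) := by
  rw [lo, dsEquiv_naturality, lo, dsChar_comp]
  rfl

lemma lo_mul {X : Over (Spec (CommRingCat.of V))} (x y : X ⟶ Red.DS (Spec (CommRingCat.of V)) M) :
    lo φ (x * y) = lo φ x * lo φ y := by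
  rw [lo, dsChar_mul]
  exact map_mul (dsEquiv ((Over.map (sp0 φ)).obj X) M) (dsChar (S := Spec (CommRingCat.of V)) (T := X) x)
    (dsChar (S := Spec (CommRingCat.of V)) (T := X) y)

variable {Q : Over (Spec (CommRingCat.of R))} [GrpObj Q] (τ : Red.DS (Spec (CommRingCat.of R)) M ⟶ Q)

/-- the base change of `τ` -/
noncomputable def up : Red.DS (Spec (CommRingCat.of V)) M ⟶ Red.bc (sp0 φ) Q :=
  bcEquiv (sp0 φ) _ Q (lo φ (𝟙 _) ≫ τ)

lemma comp_up {X : Over (Spec (CommRingCat.of V))} (x : X ⟶ Red.DS (Spec (CommRingCat.of V)) M) :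
    x ≫ up φ τ = bcEquiv (sp0 φ) _ Q (lo φ x ≫ τ) := by
  rw [up, bcEquiv_naturality, ← Category.assoc, map_lo, Category.comp_id]

instance isMonHom_up [IsMonHom τ] : IsMonHom (up φ τ) := by
  refine Pts.isMonHom_of_points _ fun X a b => ?_
  rw [comp_up, comp_up, comp_up, lo_mul, MonObj.mul_comp, map_mul]

lemma iso_up : (TorusAlgClosed.dsBcIso (sp0 φ) M).hom.hom.hom ≫ up φ τ = (Over.pullback (sp0 φ)).map τ := by
  rw [comp_up]
  have h1 : lo φ (TorusAlgClosed.dsBcIso (sp0 φ) M).hom.hom.hom =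
      (bcEquiv (sp0 φ) _ (Red.DS (Spec (CommRingCat.of R)) M)).symm (𝟙 _) := by
    rw [← dsEquiv_dsChar ((bcEquiv (sp0 φ) _ (Red.DS (Spec (CommRingCat.of R)) M)).symm (𝟙 _)), lo]
    congr 1
    have h2 := SplitBc264.dsChar_dsBcIso (sp0 φ) (𝟙 (Red.bc (sp0 φ) (Red.DS (Spec (CommRingCat.of R)) M)))
    rw [Category.id_comp] at h2
    exact h2
  rw [h1, ← bcEquiv_comp, MulEquiv.apply_symm_apply, Category.id_comp]

theorem isMaximalTorus_up [LocallyOfFiniteType Q.hom] (h : Red.IsMaximalTorus τ) :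
    Red.IsMaximalTorus (up φ τ) := by
  refine AlgBc.isMaximalTorus_of_arrow (TorusAlgClosed.dsBcIso (sp0 φ) M) (Iso.refl _) ?_
    (H830.TorBc.isMaximalTorus_bc (sp0 φ) h)
  rw [← iso_up]
  exact Category.comp_id _

variable {Γ : Type*} [CommGroup Γ] (ψ : Γ →* (𝟙_ (Over (Spec (CommRingCat.of R))) ⟶ Red.DS _ M))

/-- base change of points of `D(M)` -/
noncomputable def upPt : Γ →* (𝟙_ (Over (Spec (CommRingCat.of V))) ⟶ Red.DS _ M) :=
  (dsEquiv _ M).toMonoidHom.comp ((MonoidHom.compHom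
    (((st (𝟙_ (Over (Spec (CommRingCat.of V))))).comp φ : _ →+* _) : _ →* _)).comp (chiR ψ))

lemma chiR_upPt (γ : Γ) (l : Multiplicative M) : chiR (upPt φ ψ) γ l = φ (chiR ψ γ l) := by
  rw [chiR_apply]
  have h1 : dsChar (upPt φ ψ γ) l = st (𝟙_ (Over (Spec (CommRingCat.of V)))) (φ (chiR ψ γ l)) := by
    change dsChar (dsEquiv _ M _) l = _
    rw [dsChar_dsEquiv]
    rfl
  rw [h1, sti_st]

lemma dsChar_upPt (γ : Γ) (l : Multiplicative M) :
    dsChar (upPt φ ψ γ) l = st (𝟙_ (Over (Spec (CommRingCat.of V)))) (φ (chiR ψ γ l)) := by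
  change dsChar (dsEquiv _ M _) l = _
  rw [dsChar_dsEquiv]
  rfl

lemma dsChar_upPt' (γ : Γ) : dsChar (upPt φ ψ γ) = dsChar (S := Spec (CommRingCat.of R)) (T := SP φ)
    (toUnit (SP φ) ≫ ψ γ) := by
  refine MonoidHom.ext fun l => ?_
  rw [dsChar_upPt]
  have h2 := dsChar_const ψ (SP φ) γ l
  rw [st_SP'] at h2
  exact h2.symm

lemma lo_upPt (X : Over (Spec (CommRingCat.of V))) (γ : Γ) :
    lo φ (toUnit X ≫ upPt φ ψ γ) = toUnit ((Over.map (sp0 φ)).obj X) ≫ ψ γ := by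
  rw [← dsEquiv_dsChar (toUnit ((Over.map (sp0 φ)).obj X) ≫ ψ γ), lo]
  congr 1
  refine MonoidHom.ext fun l => ?_
  rw [dsChar_const]
  have h2 := dsChar_const ψ ((Over.map (sp0 φ)).obj X) γ l
  rw [st_mk] at h2
  rw [chiR_upPt]
  exact h2.symm

lemma sep_upPt [DecidableEq M] [Fintype Γ] {Λ : Finset M} (hs : Sep (chiR ψ) Λ) : Sep (chiR (upPt φ ψ)) Λ := by
  have h1 := hs.map φ
  have h2 : chiR (upPt φ ψ) = (MonoidHom.compHom (φ : R →* V)).comp (chiR ψ) := by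
    refine MonoidHom.ext fun γ => MonoidHom.ext fun l => ?_
    exact chiR_upPt φ ψ γ l
  rw [h2]
  exact h1

end bc

section main

variable {R : Type u} [CommRing R] {M : Type} [AddCommGroup M] [DecidableEq M] {m : Type u} [Fintype m]
  [DecidableEq m] {Q : Over (Spec (CommRingCat.of R))} [GrpObj Q] [Smooth Q.hom] [IsSeparated Q.hom]
  [QuasiCompact Q.hom]
  (ρ : Q ⟶ GLS m (Spec (CommRingCat.of R))) [IsMonHom ρ] [Mono ρ]
  (τ : Red.DS (Spec (CommRingCat.of R)) M ⟶ Q) (hmax : Red.IsMaximalTorus τ)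
  {Λ : Finset M} {e : M → Matrix m m R} (he : IsWt Λ e)
  (hρ : ∀ (X : Over (Spec (CommRingCat.of R))) (x : X ⟶ Red.DS _ M),
        mat (x ≫ τ ≫ ρ) = val (st X) Λ e (dsChar x))
  {Γ : Type} [CommGroup Γ] [Fintype Γ]
  (ψ : Γ →* (𝟙_ (Over (Spec (CommRingCat.of R))) ⟶ Red.DS _ M)) (hs : Sep (chiR ψ) Λ)
  (N : ℕ) (hN : ∀ γ : Γ, γ ^ N = 1)
  (htors : ∀ (V : Type u) [CommRing V] [IsDomain V] (φ : R →+* V) (x : SP φ ⟶ Red.DS _ M), x ^ N = 1 →
    ∃ γ, x = toUnit _ ≫ ψ γ)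
  (hinj : ∀ (V : Type u) [CommRing V] [IsDomain V] (φ : R →+* V) (γ : Γ), toUnit (SP φ) ≫ ψ γ = 1 → γ = 1)
  (φ₀ : Γ →* (𝟙_ (Over (Spec (CommRingCat.of R))) ⟶ Q)) (hφ₀ : ∀ γ, φ₀ γ = ψ γ ≫ τ)

include hmax he hρ hs hN htors hinj hφ₀ in
/-- **The valuative hypothesis.** -/
theorem valHyp : H819.ClosedOrbit.ValHyp.{u} ρ φ₀ := by
  intro V _ _ _ K _ _ _ _ s y α g hy
  obtain ⟨φ, rfl⟩ : ∃ φ : R →+* V, s = Spec.map (CommRingCat.ofHom φ) :=
    ⟨(Spec.preimage s).hom, by simp⟩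
  have hτm := hmax.1
  have hmo := hmax.2.1
  obtain ⟨ρ', hρm, hρ'⟩ := H819.BcGL.exists_bc (sp0 φ) ρ
  have hmul : ∀ (T : Over (Spec (CommRingCat.of V))) (x : T ⟶ Red.bc (sp0 φ) Q),
      mat (x ≫ ρ') = H819.BcGL.matO (sp0 φ) ((bcEquiv (sp0 φ) T Q).symm x ≫ ρ) := hρ'
  have hρmono : Mono ρ' := by
    refine ⟨fun {X} x x' hx => ?_⟩
    have h1 : (bcEquiv (sp0 φ) X Q).symm x ≫ ρ = (bcEquiv (sp0 φ) X Q).symm x' ≫ ρ := by
      apply H819.BcGL.matO_injective (sp0 φ)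
      rw [← hmul, ← hmul, hx]
    rw [cancel_mono] at h1
    exact (bcEquiv (sp0 φ) X Q).symm.injective h1
  have hQs : Smooth (Red.bc (sp0 φ) Q).hom := inferInstanceAs (Smooth (pullback.snd Q.hom (sp0 φ)))
  have hQsep : IsSeparated (Red.bc (sp0 φ) Q).hom := inferInstanceAs (IsSeparated (pullback.snd Q.hom (sp0 φ)))
  have hQqc : QuasiCompact (Red.bc (sp0 φ) Q).hom := inferInstanceAs (QuasiCompact (pullback.snd Q.hom (sp0 φ)))
  have hρlft : LocallyOfFiniteType ρ'.left := by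
    have h5 : LocallyOfFiniteType (ρ'.left ≫ (GLS m (Spec (CommRingCat.of V))).hom) := by
      rw [Over.w]; infer_instance
    exact locallyOfFiniteType_of_comp _ (GLS m (Spec (CommRingCat.of V))).hom
  have hGsep : IsSeparated (GLS m (Spec (CommRingCat.of V))).hom := inferInstance
  have hρqc : QuasiCompact ρ'.left := by
    have h5 : QuasiCompact (ρ'.left ≫ (GLS m (Spec (CommRingCat.of V))).hom) := by
      rw [Over.w]; infer_instance
    exact QuasiCompact.of_comp _ (GLS m (Spec (CommRingCat.of V))).hom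
  have hweights : ∀ (X : Over (Spec (CommRingCat.of V))) (x : X ⟶ Red.DS _ M),
        mat (x ≫ up φ τ ≫ ρ') = val (st X) Λ (fun l => (e l).map φ) (dsChar x) := by
    intro X x
    rw [← Category.assoc, hmul, comp_up, MulEquiv.symm_apply_apply, Category.assoc]
    have h1 := hρ _ (lo φ x)
    change mat (T := (Over.map (sp0 φ)).obj X) _ = _
    rw [h1, dsChar_lo, val, val]
    refine Finset.sum_congr rfl fun l _ => ?_
    congr 1
    ext a b
    exact st_mk φ X _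
  let Y : Γ → Matrix m m Γ(Spec (CommRingCat.of V), ⊤) := fun γ =>
    mat (S := Spec (CommRingCat.of R)) (T := Over.mk (Spec.map (CommRingCat.ofHom φ))) (y γ)
  have hYu : ∀ γ, IsUnit (Y γ).det := fun γ =>
    isUnit_det_mat (S := Spec (CommRingCat.of R)) (T := Over.mk (Spec.map (CommRingCat.ofHom φ))) (y γ)
  let y' : Γ → (𝟙_ (Over (Spec (CommRingCat.of V))) ⟶ GLS m (Spec (CommRingCat.of V))) := fun γ =>
    ofMat (T := 𝟙_ (Over (Spec (CommRingCat.of V)))) (Y γ) (hYu γ)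
  have hy'm : ∀ γ, mat (y' γ) = Y γ := fun γ => mat_ofMat (T := 𝟙_ (Over (Spec (CommRingCat.of V)))) _ _
  let g' : gen V K ⟶ Red.bc (sp0 φ) Q := bcEquiv (sp0 φ) (gen V K) Q g
  have hpt : ∀ (X : Over (Spec (CommRingCat.of V))) (γ : Γ),
      (bcEquiv (sp0 φ) X Q).symm (toUnit X ≫ upPt φ ψ γ ≫ up φ τ) =
        toUnit ((Over.map (sp0 φ)).obj X) ≫ φ₀ γ := by
    intro X γ
    rw [← Category.assoc, comp_up, MulEquiv.symm_apply_apply, lo_upPt, Category.assoc, hφ₀]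
  have htors' : ∀ x : 𝟙_ (Over (Spec (CommRingCat.of V))) ⟶ Red.DS _ M, x ^ N = 1 → ∃ γ, upPt φ ψ γ = x := by
    intro x hx
    let χ : Multiplicative M →* Γ((SP φ).left, ⊤) := dsChar (S := Spec (CommRingCat.of V)) x
    have h1 : dsEquiv (SP φ) M χ ^ N = 1 := by
      rw [← map_pow]
      have h2 : χ ^ N = 1 := by
        change ((dsEquiv (𝟙_ (Over (Spec (CommRingCat.of V)))) M).symm x) ^ N = 1
        rw [← map_pow, hx, map_one]
      rw [h2, map_one]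
    obtain ⟨γ, hγ⟩ := htors V φ _ h1
    refine ⟨γ, ?_⟩
    rw [← dsEquiv_dsChar x, ← dsEquiv_dsChar (upPt φ ψ γ)]
    congr 1
    rw [dsChar_upPt', ← hγ]
    exact dsChar_dsEquiv (T := SP φ) χ
  have hinj' : Function.Injective (upPt φ ψ) := by
    rw [injective_iff_map_eq_one]
    intro γ hγ
    apply hinj V φ
    rw [← dsEquiv_dsChar (toUnit (SP φ) ≫ ψ γ)]
    have h1 := dsChar_upPt' φ ψ γ
    rw [hγ] at h1
    have h2 : dsChar (1 : 𝟙_ (Over (Spec (CommRingCat.of V))) ⟶ Red.DS _ M) = 1 :=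
      map_one (dsEquiv (𝟙_ (Over (Spec (CommRingCat.of V)))) M).symm
    rw [h2] at h1
    exact (congrArg (dsEquiv (SP φ) M) h1.symm).trans (map_one (dsEquiv (SP φ) M))
  have hy' : ∀ γ, toUnit (gen V K) ≫ y' γ = (g' * (toUnit _ ≫ upPt φ ψ (α γ) ≫ up φ τ) * g'⁻¹) ≫ ρ' := by
    intro γ
    apply mat_injective
    have h1 : (bcEquiv (sp0 φ) (gen V K) Q).symm (g' * (toUnit _ ≫ upPt φ ψ (α γ) ≫ up φ τ) * g'⁻¹) =
        g * (toUnit _ ≫ φ₀ (α γ)) * g⁻¹ := by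
      rw [map_mul, map_mul, map_inv, hpt]
      simp only [g', MulEquiv.symm_apply_apply]
      rfl
    rw [hmul, h1, mat_comp, hy'm]
    have h2 := congrArg (mat (S := Spec (CommRingCat.of R))) (hy γ)
    rw [mat_comp] at h2
    refine Eq.trans ?_ h2
    have h3 : (toUnit (gen V K)).left = Spec.map (CommRingCat.ofHom (algebraMap V K)) := Over.toUnit_left
    rw [h3]
    rfl
  obtain ⟨β, h, hβ⟩ := VTCore.exists_conj_core (K := K) ρ' (up φ τ) (he.map φ) hweights (upPt φ ψ)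
    (isMaximalTorus_up φ τ hmax) (sep_upPt φ ψ hs) N hN htors' hinj' y' α g' hy'
  let h₁ : (Over.map (sp0 φ)).obj (𝟙_ _) ⟶ Q := (bcEquiv (sp0 φ) _ Q).symm h
  refine ⟨β, Asm4144.unitMap (sp0 φ) ≫ h₁, fun γ => ?_⟩
  apply mat_injective
  have h2 : mat (y' γ) = H819.BcGL.matO (sp0 φ) ((h₁ * (toUnit _ ≫ φ₀ (β γ)) * h₁⁻¹) ≫ ρ) := by
    rw [hβ, hmul, map_mul, map_mul, map_inv, ← hpt]
    rw [toUnit_unique (toUnit (𝟙_ (Over (Spec (CommRingCat.of V))))) (𝟙 _), Category.id_comp]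
  have h3 : (Asm4144.unitMap (sp0 φ) ≫ h₁ * toUnit _ ≫ φ₀ (β γ) * (Asm4144.unitMap (sp0 φ) ≫ h₁)⁻¹) ≫ ρ =
      Asm4144.unitMap (sp0 φ) ≫ (h₁ * (toUnit _ ≫ φ₀ (β γ)) * h₁⁻¹) ≫ ρ := by
    rw [← Category.assoc, MonObj.comp_mul, MonObj.comp_mul, GrpObj.comp_inv, ← Category.assoc, comp_toUnit]
  rw [h3, mat_comp]
  have h4 : mat (y γ) = Y γ := rfl
  rw [h4, ← hy'm, h2]
  ext a b
  rw [pull_apply]
  have h5 : (Asm4144.unitMap (sp0 φ)).left = 𝟙 _ := rfl
  rw [h5, Scheme.Hom.id_appTop]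
  rfl

end main

end Groth.Agent.Sga3.H832.VT
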