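import Groth.Agent.Sga3.H765.TorsFix
import Mathlib.RingTheory.LocalRing.ResidueField.Basic
import Mathlib.LinearAlgebra.Matrix.NonsingularInverse

/-!
# Descent of weight decompositions along injective ring maps
-/

set_option autoImplicit false
universe u

namespace Groth.Agent.Sga3.H832.VTAlg

open Groth.Agent.Sga3.H765.WtMat Groth.Agent.Sga3.H765.TorsFix

variable {V A : Type u} [CommRing V] [CommRing A] {f : V →+* A}
  {M : Type} [AddCommGroup M] [DecidableEq M] {m : Type u} [Fintype m] [DecidableEq m]

lemma map_injective (hf : Function.Injective f) {N N' : Matrix m m V} (h : N.map f = N'.map f) : N = N' := by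
  ext i j
  exact hf (congrFun (congrFun h i) j)

lemma map_mul' (N N' : Matrix m m V) : (N * N').map f = N.map f * N'.map f := by
  simp only [map_eq_ringHom_mapMatrix, map_mul]

lemma map_sum' {ι : Type*} (s : Finset ι) (N : ι → Matrix m m V) :
    (∑ i ∈ s, N i).map f = ∑ i ∈ s, (N i).map f := by
  simp only [map_eq_ringHom_mapMatrix, map_sum]

lemma map_smul' (a : V) (N : Matrix m m V) : (a • N).map f = f a • N.map f := by
  ext i j
  simp

lemma map_one' : (1 : Matrix m m V).map f = 1 := by
  simp only [map_eq_ringHom_mapMatrix, map_one]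

lemma map_zero' : (0 : Matrix m m V).map f = 0 := by
  simp only [map_eq_ringHom_mapMatrix, map_zero]

variable {Γ : Type*} [CommGroup Γ] [Fintype Γ] {χ : Γ →* (Multiplicative M →* V)} {Λ : Finset M}
  {e : M → Matrix m m V}

/-- Descent of the conjugate of a system of idempotents. -/
theorem exists_wt (hf : Function.Injective f) (hs : Sep χ Λ) (he : IsWt Λ e) (Y : Γ → Matrix m m V)
    {C C' : Matrix m m A} (hC : C * C' = 1) (hC' : C' * C = 1)
    (hY : ∀ γ, (Y γ).map f = C * (val (RingHom.id V) Λ e (χ γ)).map f * C') :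
    ∃ E : M → Matrix m m V, IsWt Λ E ∧ (∀ l, (E l).map f = C * (e l).map f * C') ∧
      ∀ γ, Y γ = val (RingHom.id V) Λ E (χ γ) := by
  classical
  obtain ⟨c, hc⟩ := hs.1
  let E : M → Matrix m m V := fun l => if l ∈ Λ then
    ((c⁻¹ : Vˣ) : V) • ∑ γ, χ γ⁻¹ (Multiplicative.ofAdd l) • Y γ else 0
  have hE : ∀ l, (E l).map f = C * (e l).map f * C' := by
    intro l
    by_cases hl : l ∈ Λ
    · have h1 : (∑ γ, χ γ⁻¹ (Multiplicative.ofAdd l) • Y γ).map f =
          C * ((c : V) • e l).map f * C' := by
        rw [hc, ← idem hs hl (e := e), map_sum', map_sum', Finset.mul_sum, Finset.sum_mul]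
        refine Finset.sum_congr rfl fun γ _ => ?_
        rw [map_smul', map_smul', hY, Matrix.mul_smul, Matrix.smul_mul]
      simp only [E, if_pos hl]
      rw [map_smul', h1, map_smul', Matrix.mul_smul, Matrix.smul_mul, smul_smul, ← map_mul, Units.inv_mul, map_one,
        one_smul]
    · simp only [E, if_neg hl, he.supp l hl]
      rw [map_zero', mul_zero, zero_mul]
  refine ⟨E, ⟨fun l hl => if_neg hl, fun l k => ?_, ?_⟩, hE, fun γ => ?_⟩
  · apply map_injective hf
    rw [map_mul', hE, hE]
    have h1 : C * (e l).map f * C' * (C * (e k).map f * C') = C * (e l * e k).map f * C' := by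
      rw [map_mul']
      calc C * (e l).map f * C' * (C * (e k).map f * C') = C * (e l).map f * (C' * C) * (e k).map f * C' := by
            simp only [Matrix.mul_assoc]
        _ = _ := by rw [hC', Matrix.mul_one]; simp only [Matrix.mul_assoc]
    rw [h1, he.mul]
    split_ifs
    · rw [hE]
    · rw [map_zero', mul_zero, zero_mul]
  · apply map_injective hf
    rw [map_sum', map_one']
    simp only [hE]
    rw [← Finset.sum_mul, ← Finset.mul_sum, ← map_sum', he.sum, map_one', mul_one, hC]
  · apply map_injective hf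
    rw [hY, val, val, map_sum', map_sum', Finset.mul_sum, Finset.sum_mul]
    refine Finset.sum_congr rfl fun l _ => ?_
    have h2 : ∀ N : Matrix m m V, N.map (RingHom.id V) = N := fun N => by ext i j; rfl
    rw [h2, h2, map_smul', map_smul', hE, Matrix.mul_smul, Matrix.smul_mul]

/-- A nonzero idempotent matrix over a local ring has an invertible entry. -/
lemma exists_isUnit_entry [IsLocalRing V] {E : Matrix m m V} (hE : E * E = E) (h0 : E ≠ 0) :
    ∃ i j, IsUnit (E i j) := by
  by_contra hcon
  push_neg at hcon
  have h1 : E.map (IsLocalRing.residue V) = 0 := by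
    ext i j
    rw [Matrix.map_apply, Matrix.zero_apply, IsLocalRing.residue_eq_zero_iff, IsLocalRing.mem_maximalIdeal]
    exact hcon i j
  have h2 : (1 - E).map (IsLocalRing.residue V) = 1 := by
    simp only [map_eq_ringHom_mapMatrix] at h1 ⊢
    rw [map_sub, h1, map_one, sub_zero]
  have h3 : IsUnit (1 - E).det := by
    apply (isUnit_map_iff (IsLocalRing.residue V) _).1
    rw [RingHom.map_det, ← map_eq_ringHom_mapMatrix, h2, Matrix.det_one]
    exact isUnit_one
  have h4 : IsUnit (1 - E) := (Matrix.isUnit_iff_isUnit_det _).2 h3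
  apply h0
  have h5 : E * (1 - E) = 0 := by rw [mul_sub, mul_one, hE, sub_self]
  exact (h4.mul_left_eq_zero).1 h5

end Groth.Agent.Sga3.H832.VTAlg
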